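import Mathlib.AlgebraicGeometry.Morphisms.Flat
import Mathlib.AlgebraicGeometry.Morphisms.Etale
import Groth.Agent.Lib.AlgSp.PointsUniv
import Groth.Agent.Lib.AlgSt.DiagLFP
import Groth.Agent.Lib.SpQuot.CompareMap
import Groth.Agent.S0414

/-!
# Generic flatness for algebraic spaces over a reduced scheme
-/

set_option backward.isDefEq.respectTransparency false
set_option backward.isDefEq.respectTransparency.types false

universe u

open CategoryTheory CategoryTheory.Limits AlgebraicGeometry Opposite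

namespace GrothLib.AlgSt.Rigid

open _root_.AlgSp GrothLib.AlgSp

variable {S : Scheme.{u}}

theorem isLocalOnBase_flat_fppf : IsLocalOnBase (S := S) IsFppfCover (LocP @Flat) :=
  haveI := GrothLib.AlgSp.descendsAlong_flat_fpqc.{u}
  GrothLib.SpQuot.isLocalOnBase_fppf_locP EtLocal.flat

/-- The open subscheme as an object over `S`. -/
abbrev openOver (U : Over S) (O : U.left.Opens) : Over S := Over.mk (O.ι ≫ U.hom)

/-- The inclusion of an open subscheme as a morphism over `S`. -/
abbrev openOverι (U : Over S) (O : U.left.Opens) : openOver U O ⟶ U := Over.homMk O.ι rfl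

theorem flat_lfp_restrict {F : Sp S} (hF : IsAlgSpace F) {U V : Over S} (a : F ⟶ (yon S).obj U)
    (p : (yon S).obj V ⟶ F) (pe : RepWith @Etale p) (ps : RepWith @Surjective p) (g : V ⟶ U)
    (hg : (yon S).map g = p ≫ a) (O : U.left.Opens) (h₁ : Flat (g.left ∣_ O))
    (h₂ : LocallyOfFinitePresentation (g.left ∣_ O)) :
    LocP @Flat (pullback.fst ((yon S).map (openOverι U O)) a) ∧
      LocP @LocallyOfFinitePresentation (pullback.fst ((yon S).map (openOverι U O)) a) := by
  let j := openOverι U O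
  let VB : Over S := Over.mk ((g.left ⁻¹ᵁ O).ι ≫ V.hom)
  let r : VB ⟶ V := Over.homMk (g.left ⁻¹ᵁ O).ι rfl
  let gB : VB ⟶ openOver U O := Over.homMk (g.left ∣_ O) (by
    change (g.left ∣_ O) ≫ O.ι ≫ U.hom = (g.left ⁻¹ᵁ O).ι ≫ V.hom
    rw [morphismRestrict_ι_assoc, Over.w g])
  have sq0 : IsPullback r gB g j := isPullback_of_left (isPullback_morphismRestrict g.left O).flip
  have sq1 : IsPullback ((yon S).map r) ((yon S).map gB) (p ≫ a) ((yon S).map j) := hg ▸ isPullback_yon sq0
  let FB := pullback ((yon S).map j) a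
  have sqF : IsPullback (pullback.snd ((yon S).map j) a) (pullback.fst ((yon S).map j) a) a ((yon S).map j) :=
    (IsPullback.of_hasPullback ((yon S).map j) a).flip
  let pB : (yon S).obj VB ⟶ FB := pullback.lift ((yon S).map gB) ((yon S).map r ≫ p)
    (by rw [Category.assoc, sq1.w])
  have e₁ : pB ≫ pullback.fst ((yon S).map j) a = (yon S).map gB := pullback.lift_fst _ _ _
  have e₂ : pB ≫ pullback.snd ((yon S).map j) a = (yon S).map r ≫ p := pullback.lift_snd _ _ _
  have sqp : IsPullback ((yon S).map r) pB p (pullback.snd ((yon S).map j) a) :=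
    IsPullback.of_bot (by rw [e₁]; exact sq1) e₂.symm sqF
  have pBe : RepWith @Etale pB := repWith_of_isPullback sqp pe
  have pBs : RepWith @Surjective pB := repWith_of_isPullback sqp ps
  have e : pB ≫ pullback.fst ((yon S).map j) a = (yon S).map gB ≫ 𝟙 _ := by rw [e₁, Category.comp_id]
  exact ⟨EtLocal.flat.locP_of_chart pBe pBs (repWith_id _ _) e h₁,
    EtLocal.lfp.locP_of_chart pBe pBs (repWith_id _ _) e h₂⟩

/-- A quasi-compact space locally of finite type over a reduced scheme is flat and locally of finite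
presentation over a dense open. -/
theorem exists_dense_open_flat_lfp {F : Sp S} (hF : IsAlgSpace F) {U : Over S} [IsReduced U.left]
    (a : F ⟶ (yon S).obj U) (hqc : IsQuasiCompactMor a) (hlft : LocP @LocallyOfFiniteType a) :
    ∃ O : U.left.Opens, Dense (O : Set ↥U.left) ∧
      LocP @Flat (pullback.fst ((yon S).map (openOverι U O)) a) ∧
      LocP @LocallyOfFinitePresentation (pullback.fst ((yon S).map (openOverι U O)) a) := by
  have hU := IsAlgSpace.yon_obj U
  have key : ∀ A : U.left.affineOpens, ∃ B : U.left.Opens, B ≤ A.1 ∧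
      (∀ W : U.left.Opens, ((A.1 : Set ↥U.left) ∩ W).Nonempty → ((B : Set ↥U.left) ∩ W).Nonempty) ∧
      LocP @Flat (pullback.fst ((yon S).map (openOverι U B)) a) ∧
      LocP @LocallyOfFinitePresentation (pullback.fst ((yon S).map (openOverι U B)) a) := by
    rintro ⟨A, hA⟩
    let TA := openOver U A
    let jA := openOverι U A
    have : IsAffine TA.left := hA
    have : IsReduced TA.left := inferInstanceAs (IsReduced (A : Scheme.{u}))
    let FA := pullback ((yon S).map jA) a
    have hFA : IsAlgSpace FA := isAlgSpace_pullback' hU (IsAlgSpace.yon_obj TA) hF _ _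
    let aA : FA ⟶ (yon S).obj TA := pullback.fst _ _
    obtain ⟨V, p, pe, ps, hV⟩ := hqc (IsAlgSpace.yon_obj TA) (isQuasiCompactSp_yon TA)
      ((yon S).map jA) (pullback.snd _ _) aA (IsPullback.of_hasPullback ((yon S).map jA) a).flip
    obtain ⟨g, hg⟩ := (yon S).map_surjective (p ≫ aA)
    have haA : LocP @LocallyOfFiniteType aA :=
      EtLocal.lft.locP_of_isPullback hF hU (IsAlgSpace.yon_obj TA)
        (IsPullback.of_hasPullback ((yon S).map jA) a).flip hlft
    have : LocallyOfFiniteType g.left := haA p (𝟙 _) g pe (repWith_id _ _) (by rw [hg, Category.comp_id])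
    have : CompactSpace ↥V.left := hV
    have : QuasiCompact g.left := (quasiCompact_iff_compactSpace g.left).2 hV
    obtain ⟨B', hB'd, hB'₁, hB'₂⟩ := Groth.Agent.S0414.result g.left
    refine ⟨A.ι ''ᵁ B', by rintro _ ⟨b, -, rfl⟩; exact b.2, fun W hW => ?_, ?_⟩
    · obtain ⟨w, hwA, hwW⟩ := hW
      obtain ⟨b, hbW, hbB⟩ := hB'd.inter_open_nonempty (A.ι ⁻¹' (W : Set ↥U.left))
        (W.isOpen.preimage A.ι.continuous) ⟨⟨w, hwA⟩, hwW⟩
      exact ⟨A.ι b, ⟨b, hbB, rfl⟩, hbW⟩
    · obtain ⟨h₁, h₂⟩ := flat_lfp_restrict hFA aA p pe ps g hg B' hB'₁ hB'₂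
      -- compare the two descriptions of the open subscheme
      let TB' := openOver TA B'
      let TB := openOver U (A.ι ''ᵁ B')
      let φ : TB' ⟶ TB := Over.homMk (A.ι.isoImage B').hom (by
        change (A.ι.isoImage B').hom ≫ (A.ι ''ᵁ B').ι ≫ U.hom = B'.ι ≫ A.ι ≫ U.hom
        rw [Scheme.Hom.isoImage_hom_ι_assoc])
      have : IsIso φ := by
        have : IsIso ((Over.forget S).map φ) := inferInstanceAs (IsIso (A.ι.isoImage B').hom)
        exact isIso_of_reflects_iso φ (Over.forget S)
      have hφ : φ ≫ openOverι U (A.ι ''ᵁ B') = openOverι TA B' ≫ jA :=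
        Over.OverMorphism.ext (Scheme.Hom.isoImage_hom_ι _ _)
      let jB' := (yon S).map (openOverι TA B')
      let P' := pullback jB' aA
      have sq2 : IsPullback (pullback.snd jB' aA ≫ pullback.snd ((yon S).map jA) a) (pullback.fst jB' aA) a
          ((yon S).map (φ ≫ openOverι U (A.ι ''ᵁ B'))) := by
        rw [hφ, Functor.map_comp]
        exact (IsPullback.of_hasPullback jB' aA).flip.paste_horiz (IsPullback.of_hasPullback ((yon S).map jA) a).flip
      have hP' : IsAlgSpace P' := isAlgSpace_pullback' (IsAlgSpace.yon_obj TA) (IsAlgSpace.yon_obj TB') hFA _ _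
      have hP : IsAlgSpace (pullback ((yon S).map (openOverι U (A.ι ''ᵁ B'))) a) :=
        isAlgSpace_pullback' hU (IsAlgSpace.yon_obj TB) hF _ _
      let ψ : P' ⟶ pullback ((yon S).map (openOverι U (A.ι ''ᵁ B'))) a :=
        pullback.lift (pullback.fst jB' aA ≫ (yon S).map φ) (pullback.snd jB' aA ≫ pullback.snd _ _)
          (by rw [Category.assoc, ← Functor.map_comp]; exact sq2.w.symm)
      have hψ₁ : ψ ≫ pullback.fst _ _ = pullback.fst jB' aA ≫ (yon S).map φ := pullback.lift_fst _ _ _
      have hψ₂ : ψ ≫ pullback.snd _ _ = pullback.snd jB' aA ≫ pullback.snd _ _ := pullback.lift_snd _ _ _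
      have sq3 : IsPullback ψ (pullback.fst jB' aA) (pullback.fst _ _) ((yon S).map φ) := by
        refine IsPullback.of_right ?_ hψ₁ (IsPullback.of_hasPullback ((yon S).map (openOverι U (A.ι ''ᵁ B'))) a).flip
        rw [hψ₂, ← Functor.map_comp]
        exact sq2
      let ci := inv ((yon S).map φ)
      have : IsIso ψ := sq3.isIso_fst_of_isIso
      have sq4 : IsPullback (inv ψ) (pullback.fst ((yon S).map (openOverι U (A.ι ''ᵁ B'))) a)
          (pullback.fst jB' aA) ci := IsPullback.of_horiz_isIso ⟨by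
        rw [IsIso.inv_comp_eq, ← Category.assoc, hψ₁]
        simp [ci]⟩
      exact ⟨EtLocal.flat.locP_of_isPullback hP' (IsAlgSpace.yon_obj TB') (IsAlgSpace.yon_obj TB) sq4 h₁,
        EtLocal.lfp.locP_of_isPullback hP' (IsAlgSpace.yon_obj TB') (IsAlgSpace.yon_obj TB) sq4 h₂⟩
  choose B hBA hBd hB₁ hB₂ using key
  let O : U.left.Opens := ⨆ A, B A
  have hcov : ∀ A, B A ≤ O := fun A => le_iSup B A
  refine ⟨O, ?_, ?_⟩
  · rw [dense_iff_inter_open]
    rintro W hW ⟨w, hw⟩
    obtain ⟨_, ⟨A, hA, rfl⟩, hwA, -⟩ := U.left.isBasis_affineOpens.exists_subset_of_mem_open hw hW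
    obtain ⟨b, hbB, hbW⟩ := hBd ⟨A, hA⟩ ⟨W, hW⟩ ⟨w, hwA, hw⟩
    exact ⟨b, hbW, hcov _ hbB⟩
  · let TO := openOver U O
    let c : ∀ A, openOver U (B A) ⟶ TO := fun A => Over.homMk (U.left.homOfLE (hcov A)) (by
      change U.left.homOfLE _ ≫ O.ι ≫ U.hom = _
      rw [Scheme.homOfLE_ι_assoc]
      rfl)
    have hc : ∀ A, c A ≫ openOverι U O = openOverι U (B A) := fun A =>
      Over.OverMorphism.ext (Scheme.homOfLE_ι _ (hcov A))
    have hfppf : IsFppfCover (fun A => (yon S).obj (openOver U (B A))) (fun A => (yon S).map (c A)) := by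
      have hcι : ∀ A, IsOpenImmersion (c A).left := fun A =>
        inferInstanceAs (IsOpenImmersion (U.left.homOfLE (hcov A)))
      refine ⟨fun A => ?_, fun x => ?_⟩
      · have := hcι A
        exact ⟨EtLocal.flat.locP_of_repWith (IsAlgSpace.yon_obj TO)
            ((repWith_yon_map_iff _ _).2 (inferInstance : Flat (c A).left)),
          EtLocal.lfp.locP_of_repWith (IsAlgSpace.yon_obj TO)
            ((repWith_yon_map_iff _ _).2 (inferInstance : LocallyOfFinitePresentation (c A).left))⟩
      · obtain ⟨t, rfl⟩ := (Points.schemeHomeo TO).surjective x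
        obtain ⟨A, hA⟩ := TopologicalSpace.Opens.mem_iSup.1 (t.2 : t.1 ∈ O)
        refine ⟨A, Points.schemeHomeo (openOver U (B A)) ⟨t.1, hA⟩, ?_⟩
        refine (Points.map_yon_map_apply (c A) _).trans ?_
        refine congrArg _ (Subtype.ext ?_)
        exact congrArg (fun m : (B A : Scheme.{u}) ⟶ U.left => m ⟨t.1, hA⟩)
          (Scheme.homOfLE_ι U.left (hcov A))
    let j := (yon S).map (openOverι U O)
    have hO : IsAlgSpace (pullback j a) := isAlgSpace_pullback' hU (IsAlgSpace.yon_obj TO) hF _ _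
    have hjA : ∀ A, (yon S).map (openOverι U (B A)) = (yon S).map (c A) ≫ j := fun A => by
      rw [← Functor.map_comp, hc]
    let q : ∀ A, pullback ((yon S).map (openOverι U (B A))) a ⟶ pullback j a := fun A =>
      pullback.lift (pullback.fst _ _ ≫ (yon S).map (c A)) (pullback.snd _ _)
        (by rw [Category.assoc, ← hjA, pullback.condition])
    have sq : ∀ A, IsPullback (q A) (pullback.fst _ _) (pullback.fst j a) ((yon S).map (c A)) := fun A => by
      refine IsPullback.of_right ?_ (pullback.lift_fst _ _ _) (IsPullback.of_hasPullback j a).flip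
      rw [pullback.lift_snd, ← hjA]
      exact (IsPullback.of_hasPullback _ a).flip
    have hP : ∀ A, IsAlgSpace (pullback ((yon S).map (openOverι U (B A))) a) := fun A =>
      isAlgSpace_pullback' hU (IsAlgSpace.yon_obj _) hF _ _
    exact ⟨(isLocalOnBase_flat_fppf _ _ (IsAlgSpace.yon_obj TO) (fun A => IsAlgSpace.yon_obj _) hfppf _ hO
        _ (fun A => pullback.fst _ _) q hP sq).2 hB₁,
      (GrothLib.AlgSt.isLocalOnBase_fppf_locP_lfp _ _ (IsAlgSpace.yon_obj TO) (fun A => IsAlgSpace.yon_obj _) hfppf _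
        hO _ (fun A => pullback.fst _ _) q hP sq).2 hB₂⟩

end GrothLib.AlgSt.Rigid
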