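import Groth.Agent.Lib.AlgSt.InertiaDiag
import Groth.Agent.Lib.AlgSt.OpenSub
import Groth.Agent.Lib.AlgSt.PointsMor

/-!
# The inertia of a full substack
-/

set_option backward.isDefEq.respectTransparency false
set_option backward.isDefEq.respectTransparency.types false

universe u

open CategoryTheory CategoryTheory.Limits AlgebraicGeometry Opposite

namespace GrothLib.AlgSt.Rigid

open _root_.AlgSt GrothLib.FibCat

variable {S : Scheme.{u}} {𝒳 : _root_.AlgSt.Cat S} (Q : 𝒳.obj → Prop)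

/-- The inertia of a full substack maps to the inertia. -/
def inertiaSubIncl : _root_.FibCat.inertia (_root_.FibCat.toSelf (fullSub 𝒳 Q)) ⥤ᵇ
    _root_.FibCat.inertia (_root_.FibCat.toSelf 𝒳) where
  toFunctor :=
    { obj := fun o => ⟨o.pt.obj, (ObjectProperty.ι Q).mapIso o.aut, o.map_aut⟩
      map := fun φ => ⟨φ.hom.hom, congrArg (fun t => t.hom) φ.comm⟩
      map_id := fun _ => _root_.FibCat.InertiaObj.hom_ext rfl
      map_comp := fun _ _ => _root_.FibCat.InertiaObj.hom_ext rfl }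
  w := rfl

/-- The inertia of a full substack as a base change of the inertia. -/
def inertiaSubFp : _root_.FibCat.inertia (_root_.FibCat.toSelf (fullSub 𝒳 Q)) ⥤ᵇ
    _root_.FibCat.fp (subIncl 𝒳 Q) (_root_.FibCat.inertiaToBase (_root_.FibCat.toSelf 𝒳)) :=
  _root_.FibCat.fpLift (_root_.FibCat.inertiaToBase (_root_.FibCat.toSelf (fullSub 𝒳 Q))) (inertiaSubIncl Q)
    (Iso.refl _)

theorem inertiaSubFp_fst : BasedFunctor.comp (inertiaSubFp Q) (_root_.FibCat.fpFst _ _) =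
    _root_.FibCat.inertiaToBase (_root_.FibCat.toSelf (fullSub 𝒳 Q)) := rfl

theorem isEquivOver_inertiaSubFp : _root_.FibCat.IsEquivOver (inertiaSubFp Q) := by
  refine FFEssSurjOver.isEquivOver ⟨⟨fun {x y} ψ => ?_⟩, ⟨fun {x y φ ψ} h => ?_⟩, fun η => ?_⟩
  · have hw : ψ.hom.fst.hom ≫ 𝟙 y.pt.obj = 𝟙 x.pt.obj ≫ ψ.hom.snd.hom := Fp.w ψ
    have h : ψ.hom.fst.hom = ψ.hom.snd.hom := ((Category.comp_id _).symm.trans hw).trans (Category.id_comp _)
    exact ⟨⟨ψ.hom.fst, ObjectProperty.hom_ext _ (by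
      change x.aut.hom.hom ≫ ψ.hom.fst.hom = ψ.hom.fst.hom ≫ y.aut.hom.hom
      rw [h]
      exact ψ.hom.snd.comm)⟩, Fp.hom_ext rfl (_root_.FibCat.InertiaObj.hom_ext h)⟩
  · exact _root_.FibCat.InertiaObj.hom_ext (congrArg (fun t => t.hom.fst) h)
  · let w : (fullSub 𝒳 Q).obj := η.obj.fst
    let o : (_root_.FibCat.inertia (_root_.FibCat.toSelf 𝒳)).obj := η.obj.snd
    let i : w.obj ≅ o.pt := η.obj.iso
    let α : w.obj ≅ w.obj := i ≪≫ o.aut ≪≫ i.symm
    have hα : 𝒳.p.map α.hom = 𝟙 _ := by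
      have ho : 𝒳.p.map o.aut.hom = 𝟙 _ := o.map_aut
      simp only [α, Iso.trans_hom, Iso.symm_hom, Functor.map_comp, ho]
      rw [Category.id_comp, ← Functor.map_comp, Iso.hom_inv_id, 𝒳.p.map_id]
    let x : (_root_.FibCat.inertia (_root_.FibCat.toSelf (fullSub 𝒳 Q))).obj :=
      ⟨w, { hom := ObjectProperty.homMk α.hom
            inv := ObjectProperty.homMk α.inv
            hom_inv_id := ObjectProperty.hom_ext _ α.hom_inv_id
            inv_hom_id := ObjectProperty.hom_ext _ α.inv_hom_id }, hα⟩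
    let j : (inertiaSubIncl Q).obj x ≅ o :=
      { hom := ⟨i.hom, by
          change α.hom ≫ i.hom = i.hom ≫ o.aut.hom
          simp [α]⟩
        inv := ⟨i.inv, by
          change o.aut.hom ≫ i.inv = i.inv ≫ α.hom
          simp [α]⟩
        hom_inv_id := _root_.FibCat.InertiaObj.hom_ext i.hom_inv_id
        inv_hom_id := _root_.FibCat.InertiaObj.hom_ext i.inv_hom_id }
    refine ⟨x, Fp.isoMk (Iso.refl w) j ?_, (Fp.isHomLift_iff _ _).2 (IsHomLift.id rfl)⟩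
    change 𝟙 w.obj ≫ i.hom = 𝟙 w.obj ≫ i.hom
    rfl

/-- The inertia of a full substack over a test morphism. -/
theorem repByAlgSpWith_fpFst_inertiaSub {P : MorphismProperty (AlgSp.Sp S)} {𝒵 : _root_.AlgSt.Cat S}
    (z : 𝒵 ⥤ᵇ fullSub 𝒳 Q)
    (h : RepByAlgSpWith P (_root_.FibCat.fpFst (BasedFunctor.comp z (subIncl 𝒳 Q))
      (_root_.FibCat.inertiaToBase (_root_.FibCat.toSelf 𝒳)))) :
    RepByAlgSpWith P (_root_.FibCat.fpFst z (_root_.FibCat.inertiaToBase (_root_.FibCat.toSelf (fullSub 𝒳 Q)))) := by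
  have := IsEquivOver.full (IsEquivOver.refl 𝒵)
  have := IsEquivOver.faithful (IsEquivOver.refl 𝒵)
  have := IsEquivOver.full (IsEquivOver.refl (fullSub 𝒳 Q))
  have := IsEquivOver.faithful (IsEquivOver.refl (fullSub 𝒳 Q))
  have h1 : RepByAlgSpWith P (_root_.FibCat.fpFst z (_root_.FibCat.fpFst (subIncl 𝒳 Q)
      (_root_.FibCat.inertiaToBase (_root_.FibCat.toSelf 𝒳)))) :=
    repByAlgSpWith_of_square (Fp.paste (_root_.FibCat.inertiaToBase (_root_.FibCat.toSelf 𝒳)) (subIncl 𝒳 Q) z)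
      (BasedFunctor.id 𝒵) (Fp.isEquivOver_paste _ _ _) (Iso.refl _) h
  exact repByAlgSpWith_of_square
    (Fp.map (F := z) (G := _root_.FibCat.inertiaToBase (_root_.FibCat.toSelf (fullSub 𝒳 Q))) (F' := z)
      (G' := _root_.FibCat.fpFst (subIncl 𝒳 Q) (_root_.FibCat.inertiaToBase (_root_.FibCat.toSelf 𝒳)))
      (BasedFunctor.id 𝒵) (inertiaSubFp Q) (BasedFunctor.id _) (Iso.refl _) (Iso.refl _))
    (BasedFunctor.id 𝒵)
    (Fp.isEquivOver_map _ _ _ _ _ (IsEquivOver.refl 𝒵) (isEquivOver_inertiaSubFp Q)) (Iso.refl _) h1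

theorem repByAlgSpWith_inertiaSub {P : MorphismProperty (AlgSp.Sp S)}
    (h : RepByAlgSpWith P (_root_.FibCat.inertiaToBase (_root_.FibCat.toSelf 𝒳))) :
    RepByAlgSpWith P (_root_.FibCat.inertiaToBase (_root_.FibCat.toSelf (fullSub 𝒳 Q))) := by
  have := IsEquivOver.full (IsEquivOver.refl (fullSub 𝒳 Q))
  have := IsEquivOver.faithful (IsEquivOver.refl (fullSub 𝒳 Q))
  exact repByAlgSpWith_of_square (inertiaSubFp Q) (BasedFunctor.id _) (isEquivOver_inertiaSubFp Q) (Iso.refl _)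
    (repByAlgSpWith_fpFst (subIncl 𝒳 Q) h)

theorem isQuasiCompactMor_inertiaSub
    (h : _root_.AlgSt.IsQuasiCompactMor Scheme.fppfPrecoverage (_root_.FibCat.inertiaToBase (_root_.FibCat.toSelf 𝒳))) :
    _root_.AlgSt.IsQuasiCompactMor Scheme.fppfPrecoverage
      (_root_.FibCat.inertiaToBase (_root_.FibCat.toSelf (fullSub 𝒳 Q))) := fun 𝒵 h𝒵 hq g => by
  have := IsEquivOver.full (IsEquivOver.refl (fullSub 𝒳 Q))
  have := IsEquivOver.faithful (IsEquivOver.refl (fullSub 𝒳 Q))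
  have hE := IsEquivOver.comp
    (Fp.isEquivOver_map (F := g) (G := _root_.FibCat.inertiaToBase (_root_.FibCat.toSelf (fullSub 𝒳 Q))) (F' := g)
      (G' := _root_.FibCat.fpFst (subIncl 𝒳 Q) (_root_.FibCat.inertiaToBase (_root_.FibCat.toSelf 𝒳)))
      (BasedFunctor.id 𝒵) (inertiaSubFp Q) (BasedFunctor.id _) (Iso.refl _) (Iso.refl _) (IsEquivOver.refl 𝒵)
      (isEquivOver_inertiaSubFp Q))
    (Fp.isEquivOver_paste (_root_.FibCat.inertiaToBase (_root_.FibCat.toSelf 𝒳)) (subIncl 𝒳 Q) g)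
  obtain ⟨E, hE', -, -⟩ := IsEquivOver.symm hE
  exact isQuasiCompact_of_isEquivOver E hE' (h 𝒵 h𝒵 hq (BasedFunctor.comp g (subIncl 𝒳 Q)))

end GrothLib.AlgSt.Rigid
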