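import Groth.Agent.Lib.AlgSt.Gerbe.Rigid.Main
import Groth.Agent.Lib.AlgSt.DiagSpaces
import Groth.Agent.Lib.AlgSt.SmoothLocally
import Groth.Agent.Lib.AlgSt.Topology
import Groth.Agent.Lib.DiagGrp.TrivOver
import Groth.Agent.S16806

/-!
# Reduced locally Noetherian one point stacks are gerbes
-/

set_option backward.isDefEq.respectTransparency false
set_option backward.isDefEq.respectTransparency.types false

universe u

open CategoryTheory CategoryTheory.Limits AlgebraicGeometry Opposite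

namespace GrothLib.AlgSt.Rigid

open _root_.AlgSt GrothLib.FibCat

variable {S : Scheme.{u}} {𝒳 : _root_.AlgSt.Cat S}

/-- A space locally of finite type over a field is flat and locally of finite presentation. -/
theorem flat_lfp_of_field {k : Type u} [Field k] {str : Spec (CommRingCat.of k) ⟶ S} {F : AlgSp.Sp S}
    (hF : AlgSp.IsAlgSpace F) (a : F ⟶ (AlgSp.yon S).obj (Over.mk str))
    (h : AlgSp.LocP @LocallyOfFiniteType a) :
    AlgSp.LocP @Flat a ∧ AlgSp.LocP @LocallyOfFinitePresentation a := by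
  obtain ⟨V, q, qe, qs⟩ := hF.atlas
  obtain ⟨g, hg⟩ := (AlgSp.yon S).map_surjective (q ≫ a)
  have e : q ≫ a = (AlgSp.yon S).map g ≫ 𝟙 _ := by rw [hg, Category.comp_id]
  have : LocallyOfFiniteType g.left := h q (𝟙 _) g qe (AlgSp.repWith_id _ _) e
  have : IsLocallyNoetherian (Over.mk str).left := inferInstanceAs (IsLocallyNoetherian (Spec (CommRingCat.of k)))
  exact ⟨GrothLib.AlgSp.EtLocal.flat.locP_of_chart qe qs (AlgSp.repWith_id _ _) e
      (GrothLib.DiagGrp.flat_of_field (L := k) g.left),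
    GrothLib.AlgSp.EtLocal.lfp.locP_of_chart qe qs (AlgSp.repWith_id _ _) e inferInstance⟩

theorem locQ_inertia_of_fieldPt (h𝒳 : IsAlgStack Scheme.fppfPrecoverage 𝒳) {k : Type u} [Field k]
    {str : Spec (CommRingCat.of k) ⟶ S} (z : _root_.FibCat.overCat (Over.mk str) ⥤ᵇ 𝒳)
    (hz₁ : RepByAlgSpWith (AlgSp.LocP @LocallyOfFinitePresentation) z)
    (hz₂ : RepByAlgSpWith AlgSp.IsSurjectiveMor z) (hz₃ : RepByAlgSpWith (AlgSp.LocP @Flat) z) :
    LocQ (AlgSp.LocP @Flat) (_root_.FibCat.inertiaToBase (_root_.FibCat.toSelf 𝒳)) ∧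
      LocQ (AlgSp.LocP @LocallyOfFinitePresentation) (_root_.FibCat.inertiaToBase (_root_.FibCat.toSelf 𝒳)) := by
  have := GrothLib.AlgSp.descendsAlong_flat_fpqc.{u}
  let ι := _root_.FibCat.inertiaToBase (_root_.FibCat.toSelf 𝒳)
  have hlft : RepByAlgSpWith (AlgSp.LocP @LocallyOfFiniteType) ι :=
    (repByAlgSpWith_inertiaToBase_iff _).2 (repByAlgSpWith_fpFst _ (repByAlgSpWith_lft_diag_toSelf h𝒳))
  let W := Over.mk str
  let HW : IsAlgStack Scheme.fppfPrecoverage (_root_.FibCat.overCat W) :=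
    (isDM_of_repByAlgSp (repByAlgSp_overCat W)).1
  obtain ⟨F, E, hE, hF⟩ := hlft W z
  let a := spMapOfOver (BasedFunctor.comp E (_root_.FibCat.fpFst z ι))
  obtain ⟨ha₁, ha₂⟩ := flat_lfp_of_field F.property a hF
  have key : ∀ {P : MorphismProperty (AlgSp.Sp S)}, StableSp P → P a →
      RepByAlgSpWith P (_root_.FibCat.fpFst z ι) := fun {P} hP h =>
    (repByAlgSpWith_iff_of_square (f' := ofSpMap a) (f := _root_.FibCat.fpFst z ι) E (toOverCat W) hE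
      (isEquivOver_toOverCat W) (isoOfSpMapOfOver _).symm).2
      (repByAlgSpWith_ofSpMap F.property (AlgSp.IsAlgSpace.yon_obj W) a fun U c =>
        hP F.property (AlgSp.IsAlgSpace.yon_obj W)
          (GrothLib.AlgSp.isAlgSpace_pullback' (AlgSp.IsAlgSpace.yon_obj W) (AlgSp.IsAlgSpace.yon_obj U) F.property c a)
          (AlgSp.IsAlgSpace.yon_obj U) a c _ _ (IsPullback.of_hasPullback c a).flip h)
  have hfp : IsAlgStack Scheme.fppfPrecoverage
      (_root_.FibCat.fp (_root_.FibCat.toSelf 𝒳) (_root_.FibCat.toSelf 𝒳)) :=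
    isAlgStack_fp (isDM_of_repByAlgSp repByAlgSp_selfOver).1.isStack (isDM_of_repByAlgSp repByAlgSp_selfOver).1.diag
      h𝒳 h𝒳 _ _
  have hI : IsAlgStack Scheme.fppfPrecoverage (_root_.FibCat.inertia (_root_.FibCat.toSelf 𝒳)) :=
    (isAlgStack_iff_of_isEquivOver _ (isEquivOver_inertiaToFp _)).2
      (isAlgStack_fp hfp.isStack hfp.diag h𝒳 h𝒳 _ _)
  have hsu : IsSurjective z := (isSurjective_iff_repByAlgSpWith (isFibGrpd_overCat W) h𝒳.isStack.1 z
    (repByAlgSp1_of_repByAlgSpWith hz₂)).2 hz₂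
  have q₁ := locQ_of_repByAlgSpWith GrothLib.AlgSp.isSmoothLocalST_flat h𝒳 hz₃
  have q₂ := locQ_of_repByAlgSpWith GrothLib.AlgSp.isSmoothLocalST_lfp h𝒳 hz₁
  exact ⟨locQ_flat_of_fpFst hI h𝒳 HW ι z q₁ hsu
      (locQ_of_repByAlgSpWith GrothLib.AlgSp.isSmoothLocalST_flat HW
        (key (stableSp_locP GrothLib.AlgSp.EtLocal.flat) ha₁)),
    locQ_of_fpFst_fppf GrothLib.AlgSp.isSmoothLocalST_lfp isLocalOnBase_fppf_locP_lfp hI h𝒳 HW ι z q₁ q₂ hsu
      (locQ_of_repByAlgSpWith GrothLib.AlgSp.isSmoothLocalST_lfp HW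
        (key (stableSp_locP GrothLib.AlgSp.EtLocal.lfp) ha₂))⟩

theorem exists_gerbe_of_singleton (h𝒳 : IsAlgStack Scheme.fppfPrecoverage 𝒳)
    (hred : SmoothLocally (fun T => IsReduced T) 𝒳) (hnoeth : SmoothLocally (fun T => IsLocallyNoetherian T) 𝒳)
    (hne : Nonempty (Points 𝒳)) (hsub : Subsingleton (Points 𝒳)) :
    ∃ (Z : AlgSp.Space S) (π : 𝒳 ⥤ᵇ ofSp Z.obj),
      Gerb.IsGerbeOver (QuotSh.J Scheme.fppfPrecoverage S) π ∧
        AlgSp.EtaleLocally (fun T => IsReduced T) Z.obj ∧ AlgSp.IsLocNoethSp Z.obj ∧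
        Nonempty (AlgSp.Points Z.obj) ∧ Subsingleton (AlgSp.Points Z.obj) := by
  obtain ⟨k, hk, str, z, hz₁, hz₂, hz₃⟩ :=
    (Groth.Agent.S16806.result S 𝒳 h𝒳).1 ⟨hred, hnoeth, hne, hsub⟩
  obtain ⟨Z, π, hπ⟩ := (isAlgGerbe_iff h𝒳).2 (locQ_inertia_of_fieldPt h𝒳 z hz₁ hz₂ hz₃)
  have hZ := (isDM_of_repByAlgSp (𝒳 := ofSp Z.obj) ⟨Z, BasedFunctor.id _, IsEquivOver.refl _⟩).1
  have hW := (isDM_of_repByAlgSp (repByAlgSp_overCat (Over.mk str))).1
  obtain ⟨hfl, hfp, -⟩ := Section.locQ_props h𝒳 hZ π hπ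
  have hrep : RepByAlgSp1 (BasedFunctor.comp z π) := repByAlgSp1_of_diag hZ.diag hZ.isStack.1 _
  have g₁ : RepByAlgSpWith (AlgSp.LocP @LocallyOfFinitePresentation) (BasedFunctor.comp z π) :=
    repByAlgSpWith_of_locQ GrothLib.AlgSp.isSmoothLocalST_lfp (stableSp_locP GrothLib.AlgSp.EtLocal.lfp)
      isLocalOnBase_fppf_locP_lfp hW hZ hrep
      (locQ_comp GrothLib.AlgSp.isSmoothLocalST_lfp
        (fun _ _ _ hX hY hZ _ _ ha hb => GrothLib.AlgSp.EtLocal.lfp.locP_comp hX hY hZ ha hb)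
        hW.isStack.1 (locQ_of_repByAlgSpWith GrothLib.AlgSp.isSmoothLocalST_lfp h𝒳 hz₁) hfp)
  have := GrothLib.AlgSp.descendsAlong_flat_fpqc.{u}
  have g₂ : RepByAlgSpWith (AlgSp.LocP @Flat) (BasedFunctor.comp z π) :=
    repByAlgSpWith_of_locQ GrothLib.AlgSp.isSmoothLocalST_flat (stableSp_locP GrothLib.AlgSp.EtLocal.flat)
      (GrothLib.SpQuot.isLocalOnBase_fppf_locP GrothLib.AlgSp.EtLocal.flat) hW hZ hrep
      (locQ_comp GrothLib.AlgSp.isSmoothLocalST_flat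
        (fun _ _ _ hX hY hZ _ _ ha hb => GrothLib.AlgSp.EtLocal.flat.locP_comp hX hY hZ ha hb)
        hW.isStack.1 (locQ_of_repByAlgSpWith GrothLib.AlgSp.isSmoothLocalST_flat h𝒳 hz₃) hfl)
  have g₃ : RepByAlgSpWith AlgSp.IsSurjectiveMor (BasedFunctor.comp z π) :=
    (isSurjective_iff_repByAlgSpWith (isFibGrpd_overCat _) hZ.isStack.1 _ hrep).1 fun p => by
      obtain ⟨q, rfl⟩ := Section.isSurjective_of_gerbe π hπ.1 p
      obtain ⟨w, hw⟩ := (isSurjective_iff_repByAlgSpWith (isFibGrpd_overCat _) h𝒳.isStack.1 z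
        (repByAlgSp1_of_repByAlgSpWith hz₂)).2 hz₂ q
      exact ⟨w, by rw [points_map_comp, hw]⟩
  obtain ⟨h₁, h₂, h₃, h₄⟩ := (Groth.Agent.S16806.result S (ofSp Z.obj) hZ).2 ⟨k, hk, str, _, g₁, g₃, g₂⟩
  obtain ⟨V, q, qe, qs⟩ := Z.property.atlas
  obtain ⟨v, hv, -⟩ := repByAlgSpWith_space_chart
    (x := BasedFunctor.id (ofSp Z.obj)) (repByAlgSpWith_id locP_smooth_id _) qe qs
  exact ⟨Z, π, hπ, ⟨V, q, qe, qs, h₁ V v hv⟩, ⟨V, q, qe, qs, h₂ V v hv⟩,
    ⟨toSpPoints h₃.some⟩, ⟨fun a b => by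
      obtain ⟨a, rfl⟩ := toSpPoints_bijective.2 a
      obtain ⟨b, rfl⟩ := toSpPoints_bijective.2 b
      rw [h₄.elim a b]⟩⟩

end GrothLib.AlgSt.Rigid
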