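import Groth.Agent.Lib.AlgSt.FieldImageSq
import Groth.Agent.Lib.AlgSt.Gerbe.Rigid.Singleton
import Groth.Agent.Lib.AlgSt.QC
import Mathlib.AlgebraicGeometry.Morphisms.Immersion
import Groth.Agent.Lib.AlgSt.Topology

/-!
# Residual gerbes from a chart point locally closed in its orbit
-/

set_option backward.isDefEq.respectTransparency false
set_option backward.isDefEq.respectTransparency.types false

universe u

open CategoryTheory CategoryTheory.Limits AlgebraicGeometry Opposite

namespace GrothLib.AlgSt.Rigid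

open _root_.AlgSt GrothLib.FibCat

variable {S : Scheme.{u}} {𝒳 : _root_.AlgSt.Cat S}

/-- The residue field of a point of a chart, over `S`. -/
noncomputable abbrev resPt (U : Over S) (u : ↥U.left) : Over S := Over.mk (U.left.fromSpecResidueField u ≫ U.hom)

/-- The point of the chart as a morphism over `S`. -/
noncomputable abbrev resPtι (U : Over S) (u : ↥U.left) : resPt U u ⟶ U := Over.homMk (U.left.fromSpecResidueField u) rfl

/-- The field-valued object at a point of a chart. -/
noncomputable abbrev resChart {U : Over S} (w : _root_.FibCat.overCat U ⥤ᵇ 𝒳) (u : ↥U.left) :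
    _root_.FibCat.overCat (resPt U u) ⥤ᵇ 𝒳 :=
  BasedFunctor.comp (GrothLib.FibCat.overMap (resPtι U u)) w

theorem ofChart_resChart {U : Over S} (w : _root_.FibCat.overCat U ⥤ᵇ 𝒳) (u : ↥U.left) (t : ↥(resPt U u).left) :
    Points.ofChart (resChart w u) t = Points.ofChart w u := by
  refine (ofChart_overMap (resPtι U u) w t).trans (congrArg _ ?_)
  exact Scheme.fromSpecResidueField_apply _ _

/-- A chart point with locally closed orbit trace gives a residual gerbe. -/
theorem resGerbeExists_of_chartPoint (h𝒳 : IsAlgStack Scheme.fppfPrecoverage 𝒳) {U : Over S}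
    (w : _root_.FibCat.overCat U ⥤ᵇ 𝒳) (hw : RepByAlgSpWith (AlgSp.LocP @LocallyOfFiniteType) w) (u : ↥U.left)
    (F : AlgSp.Space S) (e : ofSp F.obj ⥤ᵇ _root_.FibCat.fp (resChart w u) w) (he : _root_.FibCat.IsEquivOver e)
    (G : Over S) (q : (AlgSp.yon S).obj G ⟶ F.obj) (qe : AlgSp.RepWith @Etale q) (qs : AlgSp.RepWith @Surjective q)
    (b : G ⟶ U) (hb : (AlgSp.yon S).map b =
      q ≫ spMapOfOver (BasedFunctor.comp e (_root_.FibCat.fpSnd (resChart w u) w)))
    (hu : IsLocallyClosed (b.left ⁻¹' {u})) :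
    Gerb.ResGerbeExists Scheme.fppfPrecoverage 𝒳 (Points.ofChart w u) := by
  have g𝒳 := h𝒳.isStack.1
  let K := resPt U u
  let j := resPtι U u
  let z := resChart w u
  let a := spMapOfOver (BasedFunctor.comp e (_root_.FibCat.fpFst z w))
  let b' := spMapOfOver (BasedFunctor.comp e (_root_.FibCat.fpSnd z w))
  let jY := (AlgSp.yon S).map j
  have hK := AlgSp.IsAlgSpace.yon_obj K
  have hP : AlgSp.IsAlgSpace (pullback b' jY) :=
    GrothLib.AlgSp.isAlgSpace_pullback' (AlgSp.IsAlgSpace.yon_obj U) F.property hK _ _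
  have := IsEquivOver.full (isEquivOver_toOverCat U)
  have := IsEquivOver.faithful (isEquivOver_toOverCat U)
  obtain ⟨iG⟩ := iso_of_spMapOfOver_eq
    (Φ := BasedFunctor.comp (toOverCat K) (GrothLib.FibCat.overMap j))
    (Ψ := BasedFunctor.comp (ofSpMap jY) (toOverCat U))
    ((spMapOfOver_overMap j).trans (spMapOfOver_toOverCat _).symm)
  let iF : BasedFunctor.comp e (_root_.FibCat.fpSnd z w) ≅ BasedFunctor.comp (ofSpMap b') (toOverCat U) :=
    isoOfSpMapOfOver _
  let sq := IsPullback.of_hasPullback b' jY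
  let E := BasedFunctor.comp (BasedFunctor.comp (spToFp sq.w) (Fp.map e (toOverCat K) (toOverCat U) iF iG))
    (Fp.pasteComp (GrothLib.FibCat.overMap j) w z)
  have hE : _root_.FibCat.IsEquivOver E :=
    IsEquivOver.comp (IsEquivOver.comp (isEquivOver_spToFp sq)
      (Fp.isEquivOver_map _ _ _ _ _ he (isEquivOver_toOverCat K))) (Fp.isEquivOver_pasteComp _ _ _)
  let α := spMapOfOver (BasedFunctor.comp E (_root_.FibCat.fpFst z z))
  have hα : α = pullback.fst b' jY ≫ a :=
    (spMapOfOver_ofSpMap_comp (pullback.fst b' jY) (BasedFunctor.comp e (_root_.FibCat.fpFst z w)))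
  -- the chart of the pullback
  obtain ⟨l, hl⟩ := (AlgSp.yon S).map_surjective (q ≫ a)
  have haLft : AlgSp.LocP @LocallyOfFiniteType a := HasRep.mem (hw K z) isoInvariant_locP F e he
  have : LocallyOfFiniteType l.left :=
    haLft q (𝟙 _) l qe (AlgSp.repWith_id _ _) (by rw [hl, Category.comp_id])
  let G' := pullback b j
  have sqG : IsPullback ((AlgSp.yon S).map (pullback.fst b j)) ((AlgSp.yon S).map (pullback.snd b j))
      (q ≫ b') jY := hb ▸ GrothLib.AlgSp.isPullback_yon (IsPullback.of_hasPullback b j)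
  let pB : (AlgSp.yon S).obj G' ⟶ pullback b' jY :=
    pullback.lift ((AlgSp.yon S).map (pullback.fst b j) ≫ q) ((AlgSp.yon S).map (pullback.snd b j))
      (by rw [Category.assoc]; exact sqG.w)
  have e₁ : pB ≫ pullback.fst b' jY = (AlgSp.yon S).map (pullback.fst b j) ≫ q := pullback.lift_fst _ _ _
  have e₂ : pB ≫ pullback.snd b' jY = (AlgSp.yon S).map (pullback.snd b j) := pullback.lift_snd _ _ _
  have sqp : IsPullback ((AlgSp.yon S).map (pullback.fst b j)) pB q (pullback.fst b' jY) :=
    IsPullback.of_bot (by rw [e₂]; exact sqG) e₁.symm sq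
  have pBe : AlgSp.RepWith @Etale pB := GrothLib.AlgSp.repWith_of_isPullback sqp qe
  have pBs : AlgSp.RepWith @Surjective pB := GrothLib.AlgSp.repWith_of_isPullback sqp qs
  have sqL := GrothLib.AlgSp.isPullback_left (IsPullback.of_hasPullback b j)
  have hpre : IsPreimmersion (pullback.fst b j).left :=
    MorphismProperty.of_isPullback sqL.flip (inferInstanceAs (IsPreimmersion (U.left.fromSpecResidueField u)))
  have : IsImmersion (pullback.fst b j).left := by
    refine { toIsPreimmersion := hpre, isLocallyClosed_range := ?_ }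
    have : (pullback.fst b j).left = sqL.isoPullback.hom ≫ pullback.fst b.left j.left :=
      sqL.isoPullback_hom_fst.symm
    rw [this, Scheme.Hom.comp_base, TopCat.coe_comp, Set.range_comp,
      Set.range_eq_univ.2 sqL.isoPullback.hom.surjective, Set.image_univ, Scheme.Pullback.range_fst,
      show Set.range j.left = {u} from Scheme.range_fromSpecResidueField u]
    exact hu
  have hm : LocallyOfFiniteType ((pullback.fst b j ≫ l).left) := by
    rw [Over.comp_left]; infer_instance
  have hαlft : AlgSp.LocP @LocallyOfFiniteType α :=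
    GrothLib.AlgSp.EtLocal.lft.locP_of_chart pBe pBs (AlgSp.repWith_id _ _) (h := pullback.fst b j ≫ l) (by
      rw [Category.comp_id, hα, reassoc_of% e₁, Functor.map_comp, hl]) hm
  obtain ⟨hαfl, hαfp⟩ := flat_lfp_of_field hP α hαlft
  have key : ∀ {P : MorphismProperty (AlgSp.Sp S)}, StableSp P → P α →
      RepByAlgSpWith P (_root_.FibCat.fpFst z z) := fun {P} hPs h =>
    (repByAlgSpWith_iff_of_square (f' := ofSpMap α) (f := _root_.FibCat.fpFst z z) E (toOverCat K) hE
      (isEquivOver_toOverCat K) (isoOfSpMapOfOver _).symm).2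
      (repByAlgSpWith_ofSpMap hP hK α fun V c =>
        hPs hP hK (GrothLib.AlgSp.isAlgSpace_pullback' hK (AlgSp.IsAlgSpace.yon_obj V) hP c α)
          (AlgSp.IsAlgSpace.yon_obj V) α c _ _ (IsPullback.of_hasPullback c α).flip h)
  have hzrep : RepByAlgSp1 z := repByAlgSp1_of_diag h𝒳.diag g𝒳 z
  have hfl := key (stableSp_locP GrothLib.AlgSp.EtLocal.flat) hαfl
  have hfp := key (stableSp_locP GrothLib.AlgSp.EtLocal.lfp) hαfp
  obtain ⟨hA, hmono⟩ := isAlgStack_chartImage_of_sq h𝒳 z hzrep hfl hfp
  have hsu : RepByAlgSpWith AlgSp.IsSurjectiveMor (toChartImage z) :=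
    repByAlgSpWith_mono (fun _ _ _ _ _ h => h.1.1) (repByAlgSpWith_fppf_toChartImage_of_sq h𝒳 z hzrep hfl hfp)
  obtain ⟨hne, hsub⟩ := nonempty_subsingleton_points_of_fieldCover hA.isStack.1
    (k := U.left.residueField u) (toChartImage z) hsu
  refine ⟨_, subIncl 𝒳 (chartImage z), hA, hmono, hne, hsub, fun p => ?_⟩
  let t : ↥K.left := IsLocalRing.closedPoint (U.left.residueField u)
  rw [Subsingleton.elim p (Points.ofChart (toChartImage z) t), ← ofChart_comp]
  exact ofChart_resChart w u t

end GrothLib.AlgSt.Rigid
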