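import Groth.Agent.Lib.AlgSt.Gerbe.Rigid.Dense
import Groth.Agent.Lib.AlgSt.ReducedSub
import Groth.Agent.Lib.AlgSt.ResGerbe
import Groth.Agent.S16871

/-!
# Residual gerbes through the closure of a point
-/

set_option backward.isDefEq.respectTransparency false
set_option backward.isDefEq.respectTransparency.types false

universe u

open CategoryTheory CategoryTheory.Limits AlgebraicGeometry Opposite

namespace GrothLib.AlgSt.Rigid

open _root_.AlgSt GrothLib.FibCat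

variable {S : Scheme.{u}} {𝒳 : _root_.AlgSt.Cat S}

/-- The chart of a closed substack over a chart of the stack. -/
theorem exists_closedSub_chart (h𝒳 : IsAlgStack Scheme.fppfPrecoverage 𝒳) {Q : 𝒳.obj → Prop}
    (hQ : IsClosedSubstack 𝒳 Q Scheme.fppfPrecoverage) {U : Over S} (w : _root_.FibCat.overCat U ⥤ᵇ 𝒳) :
    ∃ (R : Over S) (r₂ : R ⟶ U) (z' : _root_.FibCat.overCat R ⥤ᵇ fullSub 𝒳 Q), IsClosedImmersion r₂.left ∧
      (∀ r, Points.map (subIncl 𝒳 Q) (Points.ofChart z' r) = Points.ofChart w (r₂.left r)) ∧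
      ∀ (u : ↥U.left) (p : Points (fullSub 𝒳 Q)), Points.ofChart w u = Points.map (subIncl 𝒳 Q) p →
        ∃ r, r₂.left r = u ∧ Points.ofChart z' r = p := by
  have g𝒳 := h𝒳.isStack.1
  have gQ := hQ.2.1.isStack.1
  obtain ⟨F, e, he, ha⟩ := hQ.2.2 U w
  let a := spMapOfOver (BasedFunctor.comp e (_root_.FibCat.fpFst w (subIncl 𝒳 Q)))
  obtain ⟨R, r₁, r₂, sq⟩ := GrothLib.AlgSp.exists_isPullback_of_representable ha.1 (𝟙 ((AlgSp.yon S).obj U))
  have : IsIso r₁ := sq.isIso_fst_of_isIso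
  have hc : IsClosedImmersion r₂.left := ha.2 _ r₁ r₂ sq
  let L := BasedFunctor.comp (ofOverCat R) (BasedFunctor.comp (ofSpMap r₁) e)
  have hL : _root_.FibCat.IsEquivOver L :=
    IsEquivOver.comp (isEquivOver_ofOverCat R) (IsEquivOver.comp (isEquivOver_ofSpMap r₁) he)
  let k := BasedFunctor.comp L (_root_.FibCat.fpFst w (subIncl 𝒳 Q))
  have hk : sliceHom k = r₂ := (AlgSp.yon S).map_injective (by
    rw [← spMapOfOver_overMap, ← spMapOfOver_congr (whiskerLeftIso (toOverCat R) (isoOverMap k))]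
    refine (spMapOfOver_congr (whiskerRightIso (toOverCatCompIso R)
      (BasedFunctor.comp (ofSpMap r₁) (BasedFunctor.comp e (_root_.FibCat.fpFst w (subIncl 𝒳 Q)))))).trans ?_
    refine (spMapOfOver_comp (ofSpMap r₁) (BasedFunctor.comp e (_root_.FibCat.fpFst w (subIncl 𝒳 Q)))).trans ?_
    rw [spHom_ofSpMap]
    exact sq.w.trans (Category.comp_id _))
  let z' : _root_.FibCat.overCat R ⥤ᵇ fullSub 𝒳 Q := BasedFunctor.comp L (_root_.FibCat.fpSnd w (subIncl 𝒳 Q))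
  have hcomm : ∀ r, Points.map (subIncl 𝒳 Q) (Points.ofChart z' r) = Points.ofChart w (r₂.left r) := fun r => by
    rw [← ofChart_comp]
    refine (ofChart_congr (x := BasedFunctor.comp z' (subIncl 𝒳 Q))
      ((whiskerLeftIso L (_root_.FibCat.fpIso w (subIncl 𝒳 Q))).symm ≪≫ whiskerRightIso (isoOverMap k) w) r).trans ?_
    rw [← hk]
    exact ofChart_overMap (sliceHom k) w r
  have hinj := points_map_injective_of_full gQ g𝒳 (subIncl 𝒳 Q)
  -- every compatible pair of points comes from `R`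
  have hlift : ∀ (u : ↥U.left) (p : Points (fullSub 𝒳 Q)), Points.ofChart w u = Points.map (subIncl 𝒳 Q) p →
      ∃ r, r₂.left r = u ∧ Points.ofChart z' r = p := by
    intro u p h
    obtain ⟨q, hq₁, hq₂⟩ := exists_points_fp gQ (isFibGrpd_overCat U) g𝒳 (subIncl 𝒳 Q) w
      (Points.ofChart (BasedFunctor.id _) u) p ((ofChart_eq_map w u).symm.trans h)
    obtain ⟨o, rfl⟩ := (points_map_bijective_of_isEquivOver (isFibGrpd_overCat R) L hL).2 q
    rw [← points_map_comp] at hq₁ hq₂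
    refine ⟨pointOf o, ?_, (map_eq_ofChart_pointOf z' o).symm.trans hq₂⟩
    have h1 := (map_eq_ofChart_pointOf k o).symm.trans hq₁
    rw [ofChart_congr (isoOverMap k) (pointOf o), hk] at h1
    have h2 : Points.ofChart (GrothLib.FibCat.overMap r₂) (pointOf o) =
        Points.ofChart (BasedFunctor.id (_root_.FibCat.overCat U)) (r₂.left (pointOf o)) :=
      ofChart_overMap r₂ (BasedFunctor.id _) (pointOf o)
    simpa only [pointOf_ofChart_id] using congrArg pointOf (h2.symm.trans h1)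
  exact ⟨R, r₂, z', hc, hcomm, hlift⟩

/-- The point of a closed substack over a point dense in it lies in every nonempty open. -/
theorem mem_of_isOpen_of_closure (h𝒳 : IsAlgStack Scheme.fppfPrecoverage 𝒳) {Q : 𝒳.obj → Prop}
    (hQ : IsClosedSubstack 𝒳 Q Scheme.fppfPrecoverage) {x : Points 𝒳}
    (hrange : Set.range (Points.map (subIncl 𝒳 Q)) = closure {x}) {z₀ : Points (fullSub 𝒳 Q)}
    (hz₀ : Points.map (subIncl 𝒳 Q) z₀ = x) {W : Set (Points (fullSub 𝒳 Q))} (hW : IsOpen W)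
    (hne : W.Nonempty) : z₀ ∈ W := by
  have g𝒳 := h𝒳.isStack.1
  have gQ := hQ.2.1.isStack.1
  obtain ⟨U, w, hw, hws⟩ := h𝒳.atlas
  have hwq := isOpenQuotientMap_ofChart g𝒳 hw hws
  obtain ⟨R, r₂, z', hc, hcomm, hlift⟩ := exists_closedSub_chart h𝒳 hQ w
  obtain ⟨p, hp⟩ := hne
  obtain ⟨u, hu⟩ := hwq.surjective (Points.map (subIncl 𝒳 Q) p)
  obtain ⟨r, hr, hrp⟩ := hlift u p hu
  obtain ⟨O, hO, hOW⟩ := r₂.left.isClosedEmbedding.isInducing.isOpen_iff.1
    (hW.preimage (continuous_ofChart gQ hQ.2.1.atlas z'))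
  have hrO : r ∈ r₂.left ⁻¹' O := by rw [hOW]; exact (show Points.ofChart z' r ∈ W by rw [hrp]; exact hp)
  have hucl : u ∈ closure (Points.ofChart w ⁻¹' {x}) := by
    rw [← hwq.isOpenMap.preimage_closure_eq_closure_preimage hwq.continuous, Set.mem_preimage, hu, ← hrange]
    exact ⟨p, rfl⟩
  obtain ⟨v, hvO, hvx⟩ := mem_closure_iff.1 hucl O hO (hr ▸ hrO)
  obtain ⟨r', hr', hr'z⟩ := hlift v z₀ ((Set.mem_singleton_iff.1 hvx).trans hz₀.symm)
  have : r' ∈ Points.ofChart z' ⁻¹' W := by rw [← hOW, Set.mem_preimage, hr']; exact hvO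
  rwa [Set.mem_preimage, hr'z] at this

/-- Open sets of points of a closed substack are traces of open sets. -/
theorem exists_isOpen_image_eq (h𝒳 : IsAlgStack Scheme.fppfPrecoverage 𝒳) {Q : 𝒳.obj → Prop}
    (hQ : IsClosedSubstack 𝒳 Q Scheme.fppfPrecoverage) {W : Set (Points (fullSub 𝒳 Q))} (hW : IsOpen W) :
    ∃ W₀ : Set (Points 𝒳), IsOpen W₀ ∧
      Points.map (subIncl 𝒳 Q) '' W = Set.range (Points.map (subIncl 𝒳 Q)) ∩ W₀ := by
  have g𝒳 := h𝒳.isStack.1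
  have gQ := hQ.2.1.isStack.1
  have hinj := points_map_injective_of_full gQ g𝒳 (subIncl 𝒳 Q)
  refine ⟨(Points.map (subIncl 𝒳 Q) '' Wᶜ)ᶜ, Points.isOpen_iff.2 fun U y _ => ?_, ?_⟩
  · obtain ⟨R, r₂, z', hc, hcomm, hlift⟩ := exists_closedSub_chart h𝒳 hQ y
    rw [Set.preimage_compl, isOpen_compl_iff]
    have : Points.ofChart y ⁻¹' (Points.map (subIncl 𝒳 Q) '' Wᶜ) = r₂.left '' (Points.ofChart z' ⁻¹' Wᶜ) := by
      ext u
      constructor
      · rintro ⟨p, hp, hpu⟩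
        obtain ⟨r, hr, hrp⟩ := hlift u p hpu.symm
        exact ⟨r, (show Points.ofChart z' r ∈ Wᶜ by rw [hrp]; exact hp), hr⟩
      · rintro ⟨r, hr, rfl⟩
        exact ⟨_, hr, hcomm r⟩
    rw [this]
    exact r₂.left.isClosedEmbedding.isClosedMap _
      (hW.isClosed_compl.preimage (continuous_ofChart gQ hQ.2.1.atlas z'))
  · ext p
    constructor
    · rintro ⟨q, hq, rfl⟩
      exact ⟨⟨q, rfl⟩, fun ⟨q', hq', e⟩ => hq' (hinj e ▸ hq)⟩
    · rintro ⟨⟨q, rfl⟩, hq⟩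
      exact ⟨q, by_contra fun h => hq ⟨q, h, rfl⟩, rfl⟩

/-- With quasi-compact inertia, residual gerbes exist. -/
theorem resGerbeExists_of_qc (h𝒳 : IsAlgStack Scheme.fppfPrecoverage 𝒳)
    (hI : _root_.AlgSt.IsQuasiCompactMor Scheme.fppfPrecoverage
      (_root_.FibCat.inertiaToBase (_root_.FibCat.toSelf 𝒳))) (x : Points 𝒳) :
    Gerb.ResGerbeExists Scheme.fppfPrecoverage 𝒳 x := by
  have g𝒳 := h𝒳.isStack.1
  obtain ⟨Q, hQ, hrange, hred⟩ := exists_reduced_closedSubstack h𝒳 (closure {x}) isClosed_closure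
  obtain ⟨z₀, hz₀⟩ := hrange.symm.subset (subset_closure (Set.mem_singleton x))
  obtain ⟨Q', hQ', hd, X, π, hπ⟩ := exists_dense_gerbe hQ.2.1 hred (isQuasiCompactMor_inertiaSub Q hI)
  obtain ⟨w₀, hw₀⟩ := mem_of_isOpen_of_closure h𝒳 hQ hrange hz₀ (isOpen_range_of_isOpenSubstack hQ.2.1 hQ')
    (@Dense.nonempty _ _ _ (Nonempty.intro z₀) hd)
  obtain ⟨𝒵, i, h𝒵, hi, hne, hsub, hpt⟩ := Groth.Agent.S16871.result S _ hQ'.2.1 X π hπ w₀
  have g₁ := hQ'.2.1.isStack.1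
  exact ⟨𝒵, BasedFunctor.comp (BasedFunctor.comp i (subIncl (fullSub 𝒳 Q) Q')) (subIncl 𝒳 Q), h𝒵,
    isMono_comp h𝒵.isStack.1 hQ.2.1.isStack.1 _ _
      (isMono_comp h𝒵.isStack.1 g₁ _ _ hi (isMono_subIncl hQ.2.1 hQ'.2.1)) (isMono_subIncl h𝒳 hQ.2.1),
    hne, hsub, fun z => by rw [points_map_comp, points_map_comp, hpt z, hw₀, hz₀]⟩

end GrothLib.AlgSt.Rigid
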