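import Groth.Agent.Lib.AlgSt.Gerbe.Rigid.GenericFlat
import Groth.Agent.Lib.AlgSt.Gerbe.Rigid.SubInertia
import Groth.Agent.Lib.AlgSt.Gerbe.Rigid.Singleton
import Groth.Agent.Lib.AlgSt.QCMor
import Groth.Agent.Lib.AlgSt.FieldChart

/-!
# A dense open gerbe in a reduced stack with quasi-compact inertia
-/

set_option backward.isDefEq.respectTransparency false
set_option backward.isDefEq.respectTransparency.types false

universe u

open CategoryTheory CategoryTheory.Limits AlgebraicGeometry Opposite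

namespace GrothLib.AlgSt.Rigid

open _root_.AlgSt GrothLib.FibCat

variable {S : Scheme.{u}} {𝒳 : _root_.AlgSt.Cat S}

/-- A model of `π` over a slice gives one of its restriction along a morphism of slices. -/
theorem repByAlgSpWith_fpFst_overMap {𝒢 : _root_.AlgSt.Cat S} {U T : Over S}
    (π : 𝒢 ⥤ᵇ _root_.FibCat.overCat U) (F : AlgSp.Space S) (e : ofSp F.obj ⥤ᵇ 𝒢)
    (he : _root_.FibCat.IsEquivOver e) (j : T ⟶ U) {P : MorphismProperty (AlgSp.Sp S)} (hP : StableSp P)
    (h : P (pullback.fst ((AlgSp.yon S).map j) (spMapOfOver (BasedFunctor.comp e π)))) :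
    RepByAlgSpWith P (_root_.FibCat.fpFst (GrothLib.FibCat.overMap j) π) := by
  let a := spMapOfOver (BasedFunctor.comp e π)
  let jY := (AlgSp.yon S).map j
  have := IsEquivOver.full (isEquivOver_toOverCat U)
  have := IsEquivOver.faithful (isEquivOver_toOverCat U)
  obtain ⟨iF⟩ := iso_of_spMapOfOver_eq
    (Φ := BasedFunctor.comp (toOverCat T) (GrothLib.FibCat.overMap j))
    (Ψ := BasedFunctor.comp (ofSpMap ((AlgSp.yon S).map j)) (toOverCat U))
    ((spMapOfOver_overMap j).trans (spMapOfOver_toOverCat _).symm)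
  let iG : BasedFunctor.comp e π ≅ BasedFunctor.comp (ofSpMap a) (toOverCat U) :=
    isoOfSpMapOfOver (BasedFunctor.comp e π)
  let sq := IsPullback.of_hasPullback jY a
  have hT := AlgSp.IsAlgSpace.yon_obj T
  have hF' : AlgSp.IsAlgSpace (pullback jY a) :=
    GrothLib.AlgSp.isAlgSpace_pullback' (AlgSp.IsAlgSpace.yon_obj U) hT F.property _ _
  exact (repByAlgSpWith_iff_of_square (f' := ofSpMap (pullback.fst jY a))
    (f := _root_.FibCat.fpFst (GrothLib.FibCat.overMap j) π)
    (BasedFunctor.comp (spToFp sq.w) (Fp.map (toOverCat T) e (toOverCat U) iF iG)) (toOverCat T)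
    (IsEquivOver.comp (isEquivOver_spToFp sq) (Fp.isEquivOver_map _ _ _ _ _ (isEquivOver_toOverCat T) he))
    (isEquivOver_toOverCat T) (Iso.refl _)).2
      (repByAlgSpWith_ofSpMap hF' hT _ fun V c =>
        hP hF' hT (GrothLib.AlgSp.isAlgSpace_pullback' hT (AlgSp.IsAlgSpace.yon_obj V) hF' c _)
          (AlgSp.IsAlgSpace.yon_obj V) _ c _ _ (IsPullback.of_hasPullback c _).flip h)

theorem exists_dense_gerbe (h𝒳 : IsAlgStack Scheme.fppfPrecoverage 𝒳)
    (hred : SmoothLocally (fun T => IsReduced T) 𝒳)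
    (hI : _root_.AlgSt.IsQuasiCompactMor Scheme.fppfPrecoverage
      (_root_.FibCat.inertiaToBase (_root_.FibCat.toSelf 𝒳))) :
    ∃ Q : 𝒳.obj → Prop, IsOpenSubstack 𝒳 Q Scheme.fppfPrecoverage ∧
      Dense (Set.range (Points.map (subIncl 𝒳 Q))) ∧
      Gerb.IsAlgGerbe Scheme.fppfPrecoverage (fullSub 𝒳 Q) := by
  have g𝒳 := h𝒳.isStack.1
  let ι := _root_.FibCat.inertiaToBase (_root_.FibCat.toSelf 𝒳)
  have hlft : RepByAlgSpWith (AlgSp.LocP @LocallyOfFiniteType) ι :=
    (repByAlgSpWith_inertiaToBase_iff _).2 (repByAlgSpWith_fpFst _ (repByAlgSpWith_lft_diag_toSelf h𝒳))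
  have hqc : RepByAlgSpWith AlgSp.IsQuasiCompactMor ι :=
    repByAlgSpWith_isQuasiCompactMor_of ι (repByAlgSp1_of_repByAlgSpWith hlft) hI
  obtain ⟨U, x, hx, hxs⟩ := h𝒳.atlas
  have : IsReduced U.left := hred U x hx
  obtain ⟨F, e, he, hFl, hFq⟩ := repByAlgSpWith_inf isoInvariant_locP hlft hqc U x
  obtain ⟨O, hO, hO₁, hO₂⟩ :=
    exists_dense_open_flat_lfp F.property (spMapOfOver (BasedFunctor.comp e (_root_.FibCat.fpFst x ι))) hFq hFl
  have hq := isOpenQuotientMap_ofChart g𝒳 hx hxs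
  let W : Set (Points 𝒳) := Points.ofChart x '' (O : Set ↥U.left)
  have hW : IsOpen W := hq.isOpenMap _ O.2
  have hQ := isOpenSubstack_openPred h𝒳 hW
  refine ⟨openPred W, hQ, ?_, ?_⟩
  · rw [range_points_map_subIncl_openPred g𝒳]
    exact hq.surjective.denseRange.dense_image hq.continuous hO
  · let j := openOverι U O
    let TO := openOver U O
    let z : _root_.FibCat.overCat TO ⥤ᵇ fullSub 𝒳 (openPred W) :=
      liftSub (openPred W) (BasedFunctor.comp (GrothLib.FibCat.overMap j) x) fun a =>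
        (openPred_obj_iff g𝒳 x ((GrothLib.FibCat.overMap j).obj a)).2 fun t => ⟨_, (a.hom.left t).2, rfl⟩
    have hzX : RepByAlgSpWith (AlgSp.LocP @Smooth) (BasedFunctor.comp (GrothLib.FibCat.overMap j) x) :=
      repByAlgSpWith_overMap_comp GrothLib.AlgSp.EtLocal.smooth g𝒳 j (inferInstanceAs (Smooth O.ι)) x hx
    have := IsEquivOver.full (IsEquivOver.refl (_root_.FibCat.overCat TO))
    have := IsEquivOver.faithful (IsEquivOver.refl (_root_.FibCat.overCat TO))
    have hz : RepByAlgSpWith (AlgSp.LocP @Smooth) z :=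
      repByAlgSpWith_of_square (BasedFunctor.id _) (subIncl 𝒳 (openPred W)) (IsEquivOver.refl _) (Iso.refl _) hzX
    have h𝒲 := hQ.2.1
    have g𝒲 := h𝒲.isStack.1
    have hzs : IsSurjective z := fun q => by
      obtain ⟨t, ht, e'⟩ : Points.map (subIncl 𝒳 (openPred W)) q ∈ W :=
        (range_points_map_subIncl_openPred g𝒳).subset ⟨q, rfl⟩
      refine ⟨Points.ofChart (BasedFunctor.id _) (⟨t, ht⟩ : (O : Scheme.{u})), ?_⟩
      rw [← ofChart_eq_map]
      apply points_map_injective_of_full g𝒲 g𝒳 (subIncl 𝒳 (openPred W))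
      rw [← ofChart_comp, ← e']
      exact ofChart_overMap j x _
    have hHW := (isDM_of_repByAlgSp (repByAlgSp_overCat TO)).1
    have hlft' : RepByAlgSpWith (AlgSp.LocP @LocallyOfFiniteType)
        (_root_.FibCat.inertiaToBase (_root_.FibCat.toSelf (fullSub 𝒳 (openPred W)))) :=
      repByAlgSpWith_inertiaSub _ hlft
    have key : ∀ {P : MorphismProperty (AlgSp.Sp S)}, StableSp P →
        P (pullback.fst ((AlgSp.yon S).map j) (spMapOfOver (BasedFunctor.comp e (_root_.FibCat.fpFst x ι)))) →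
        RepByAlgSpWith P (_root_.FibCat.fpFst z
          (_root_.FibCat.inertiaToBase (_root_.FibCat.toSelf (fullSub 𝒳 (openPred W))))) := fun {P} hP h => by
      have h1 := repByAlgSpWith_fpFst_overMap (_root_.FibCat.fpFst x ι) F e he j hP h
      have h2 : RepByAlgSpWith P (_root_.FibCat.fpFst (BasedFunctor.comp (GrothLib.FibCat.overMap j) x) ι) :=
        (repByAlgSpWith_iff_of_square (f := _root_.FibCat.fpFst (BasedFunctor.comp (GrothLib.FibCat.overMap j) x) ι)
          (f' := _root_.FibCat.fpFst (GrothLib.FibCat.overMap j) (_root_.FibCat.fpFst x ι))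
          (Fp.paste ι x (GrothLib.FibCat.overMap j)) (BasedFunctor.id _) (Fp.isEquivOver_paste _ _ _)
          (IsEquivOver.refl _) (Iso.refl _)).2 h1
      exact repByAlgSpWith_fpFst_inertiaSub (openPred W) z h2
    have hI' := isAlgStack_fp (isDM_of_repByAlgSp repByAlgSp_selfOver).1.isStack
      (isDM_of_repByAlgSp repByAlgSp_selfOver).1.diag h𝒲 h𝒲
      (_root_.FibCat.toSelf (fullSub 𝒳 (openPred W))) (_root_.FibCat.toSelf (fullSub 𝒳 (openPred W)))
    have hI'' : IsAlgStack Scheme.fppfPrecoverage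
        (_root_.FibCat.inertia (_root_.FibCat.toSelf (fullSub 𝒳 (openPred W)))) :=
      (isAlgStack_iff_of_isEquivOver _ (isEquivOver_inertiaToFp _)).2
        (isAlgStack_fp hI'.isStack hI'.diag h𝒲 h𝒲 _ _)
    have := GrothLib.AlgSp.descendsAlong_flat_fpqc.{u}
    have q₁ : LocQ (AlgSp.LocP @Flat) z := locQ_of_repByAlgSpWith GrothLib.AlgSp.isSmoothLocalST_flat h𝒲
      (repByAlgSpWith_mono (fun _ _ _ _ _ h => GrothLib.AlgSp.locP_mono (P := @Smooth) (fun _ _ t (ht : Smooth t) => by infer_instance) h) hz)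
    have q₂ : LocQ (AlgSp.LocP @LocallyOfFinitePresentation) z :=
      locQ_of_repByAlgSpWith GrothLib.AlgSp.isSmoothLocalST_lfp h𝒲
        (repByAlgSpWith_mono (fun _ _ _ _ _ h => GrothLib.AlgSp.locP_mono (P := @Smooth) (fun _ _ t (ht : Smooth t) => by infer_instance) h) hz)
    exact (isAlgGerbe_iff h𝒲).2
      ⟨locQ_flat_of_fpFst hI'' h𝒲 hHW _ z q₁ hzs (locQ_of_repByAlgSpWith GrothLib.AlgSp.isSmoothLocalST_flat hHW
        (key (stableSp_locP GrothLib.AlgSp.EtLocal.flat) hO₁)),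
      locQ_of_fpFst_fppf GrothLib.AlgSp.isSmoothLocalST_lfp isLocalOnBase_fppf_locP_lfp hI'' h𝒲 hHW _ z q₁ q₂ hzs
        (locQ_of_repByAlgSpWith GrothLib.AlgSp.isSmoothLocalST_lfp hHW
          (key (stableSp_locP GrothLib.AlgSp.EtLocal.lfp) hO₂))⟩

end GrothLib.AlgSt.Rigid
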