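import Groth.Agent.Lib.AlgSt.Gerbe.Rigid.Image
import Groth.Agent.Lib.AlgSt.DiagLFT
import Groth.Agent.Lib.AlgSt.IsoClClean

/-!
# Maps from a stack to a sheaf given on an atlas
-/

set_option backward.isDefEq.respectTransparency false
set_option backward.isDefEq.respectTransparency.types false

universe u

open CategoryTheory CategoryTheory.Functor CategoryTheory.Limits AlgebraicGeometry Opposite

namespace GrothLib.AlgSt.Rigid

open _root_.AlgSt GrothLib.FibCat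

variable {S : Scheme.{u}} {𝒳 : _root_.AlgSt.Cat S} {U : Over S} (x : _root_.FibCat.overCat U ⥤ᵇ 𝒳)
  {X : AlgSp.Sp S} (p : (AlgSp.yon S).obj U ⟶ X)

/-- Points of `U` over the objects of a test functor. -/
def liftSieve {T : Over S} (y : _root_.FibCat.overCat T ⥤ᵇ 𝒳) : Sieve T where
  arrows V c := ∃ l : V ⟶ U, Nonempty (BasedFunctor.comp (_root_.AlgSt.overMap c) y ≅
    BasedFunctor.comp (_root_.AlgSt.overMap l) x)
  downward_closed {V W c} := by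
    rintro ⟨l, ⟨i⟩⟩ g
    exact ⟨g ≫ l, ⟨(whiskerRightIso (overMapCompIso g c) y).symm ≪≫ whiskerLeftIso (_root_.AlgSt.overMap g) i ≪≫
      whiskerRightIso (overMapCompIso g l) x⟩⟩

theorem liftSieve_mem (hsm : RepByAlgSpWith (AlgSp.LocP @Smooth) x)
    (hsu : RepByAlgSpWith AlgSp.IsSurjectiveMor x) {T : Over S} (y : _root_.FibCat.overCat T ⥤ᵇ 𝒳) :
    liftSieve x y ∈ AlgSp.J S T := by
  obtain ⟨V, c, l, hc, hs, ⟨i⟩⟩ := exists_lift_chart y x hsm hsu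
  refine GrothendieckTopology.superset_covering _ ?_ (generate_singleton_mem_J c)
  rw [Sieve.generate_le_iff]
  rintro W f ⟨⟩
  exact ⟨l, ⟨i⟩⟩

/-- `z` is the value on `y` of the map to `X` given by `p`. -/
def IsValue {T : Over S} (y : _root_.FibCat.overCat T ⥤ᵇ 𝒳) (z : (AlgSp.yon S).obj T ⟶ X) : Prop :=
  ∀ ⦃V : Over S⦄ (c : V ⟶ T) (l : V ⟶ U), Nonempty (BasedFunctor.comp (_root_.AlgSt.overMap c) y ≅
    BasedFunctor.comp (_root_.AlgSt.overMap l) x) → (AlgSp.yon S).map c ≫ z = (AlgSp.yon S).map l ≫ p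

variable (hsm : RepByAlgSpWith (AlgSp.LocP @Smooth) x) (hsu : RepByAlgSpWith AlgSp.IsSurjectiveMor x)
  (hp : ∀ ⦃T : Over S⦄ (a b : T ⟶ U), Nonempty (BasedFunctor.comp (_root_.AlgSt.overMap a) x ≅
    BasedFunctor.comp (_root_.AlgSt.overMap b) x) → (AlgSp.yon S).map a ≫ p = (AlgSp.yon S).map b ≫ p)
include hsm hsu hp

omit hp in
theorem IsValue.unique {T : Over S} {y : _root_.FibCat.overCat T ⥤ᵇ 𝒳} {z z' : (AlgSp.yon S).obj T ⟶ X}
    (h : IsValue x p y z) (h' : IsValue x p y z') : z = z' :=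
  eq_of_locally z z' (liftSieve_mem x hsm hsu y) fun _ c ⟨l, hl⟩ => (h c l hl).trans (h' c l hl).symm

omit hsm hsu in
theorem comp_eq_of_iso {T : Over S} {y : _root_.FibCat.overCat T ⥤ᵇ 𝒳} ⦃V : Over S⦄ (c : V ⟶ T) (l l' : V ⟶ U)
    (h : Nonempty (BasedFunctor.comp (_root_.AlgSt.overMap c) y ≅ BasedFunctor.comp (_root_.AlgSt.overMap l) x))
    (h' : Nonempty (BasedFunctor.comp (_root_.AlgSt.overMap c) y ≅ BasedFunctor.comp (_root_.AlgSt.overMap l') x)) :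
    (AlgSp.yon S).map l ≫ p = (AlgSp.yon S).map l' ≫ p :=
  let ⟨i⟩ := h
  let ⟨j⟩ := h'
  hp l l' ⟨i.symm ≪≫ j⟩

omit hsm hsu hp in
theorem iso_comp_left {T : Over S} {y : _root_.FibCat.overCat T ⥤ᵇ 𝒳} ⦃V W : Over S⦄ (g : W ⟶ V) (c : V ⟶ T)
    (l : V ⟶ U)
    (h : Nonempty (BasedFunctor.comp (_root_.AlgSt.overMap c) y ≅ BasedFunctor.comp (_root_.AlgSt.overMap l) x)) :
    Nonempty (BasedFunctor.comp (_root_.AlgSt.overMap (g ≫ c)) y ≅
      BasedFunctor.comp (_root_.AlgSt.overMap (g ≫ l)) x) :=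
  let ⟨i⟩ := h
  ⟨(whiskerRightIso (overMapCompIso g c) y).symm ≪≫ whiskerLeftIso (_root_.AlgSt.overMap g) i ≪≫
    whiskerRightIso (overMapCompIso g l) x⟩

theorem exists_value {T : Over S} (y : _root_.FibCat.overCat T ⥤ᵇ 𝒳) : ∃ z, IsValue x p y z := by
  have hXsh := (isSheaf_iff_isSheaf_of_type _ _).1 X.property (liftSieve x y) (liftSieve_mem x hsm hsu y)
  have hch : ∀ ⦃V : Over S⦄ (c : V ⟶ T), (liftSieve x y).arrows c → ∃ l : V ⟶ U,
      Nonempty (BasedFunctor.comp (_root_.AlgSt.overMap c) y ≅ BasedFunctor.comp (_root_.AlgSt.overMap l) x) :=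
    fun _ _ h => h
  choose L hL using hch
  let fam : Presieve.FamilyOfElements X.obj (liftSieve x y).arrows := fun V c hc =>
    (AlgSp.J S).uliftYonedaEquiv.{u + 1} ((AlgSp.yon S).map (L c hc) ≫ p)
  have hres : ∀ ⦃V W : Over S⦄ (g : W ⟶ V) (c : V ⟶ T) (hc : (liftSieve x y).arrows c),
      X.obj.map g.op (fam c hc) = (AlgSp.J S).uliftYonedaEquiv.{u + 1} ((AlgSp.yon S).map (g ≫ L c hc) ≫ p) := by
    intro V W g c hc
    refine (GrothendieckTopology.uliftYonedaEquiv_naturality _ _ g).trans ?_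
    rw [← Functor.map_comp_assoc]
  have hfam : fam.Compatible := by
    intro V₁ V₂ W g₁ g₂ f₁ f₂ hf₁ hf₂ e
    have h₁ := iso_comp_left x g₁ f₁ _ (hL f₁ hf₁)
    have h₂ := iso_comp_left x g₂ f₂ _ (hL f₂ hf₂)
    rw [e] at h₁
    rw [hres g₁ f₁ hf₁, hres g₂ f₂ hf₂, comp_eq_of_iso x p hp _ _ _ h₁ h₂]
  refine ⟨(AlgSp.J S).uliftYonedaEquiv.{u + 1}.symm (hXsh.amalgamate fam hfam), fun V c l hl => ?_⟩
  have hc : (liftSieve x y).arrows c := ⟨l, hl⟩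
  have e1 := hXsh.valid_glue hfam c hc
  have e2 : (AlgSp.yon S).map (L c hc) ≫ p = (AlgSp.yon S).map l ≫ p := comp_eq_of_iso x p hp c _ l (hL c hc) hl
  rw [← e2]
  apply (AlgSp.J S).uliftYonedaEquiv.{u + 1}.injective
  refine Eq.trans ?_ e1
  refine (GrothendieckTopology.uliftYonedaEquiv_naturality _ _ c).symm.trans ?_
  rw [Equiv.apply_symm_apply]

omit hsm hsu hp in
theorem IsValue.of_iso {T : Over S} {y y' : _root_.FibCat.overCat T ⥤ᵇ 𝒳} {z : (AlgSp.yon S).obj T ⟶ X}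
    (h : IsValue x p y z) (i : y ≅ y') : IsValue x p y' z :=
  fun _ c l ⟨j⟩ => h c l ⟨whiskerLeftIso (_root_.AlgSt.overMap c) i ≪≫ j⟩

omit hsm hsu hp in
theorem IsValue.comp {T T' : Over S} {y : _root_.FibCat.overCat T ⥤ᵇ 𝒳} {z : (AlgSp.yon S).obj T ⟶ X}
    (h : IsValue x p y z) (g : T' ⟶ T) :
    IsValue x p (BasedFunctor.comp (_root_.AlgSt.overMap g) y) ((AlgSp.yon S).map g ≫ z) := fun _ c l ⟨j⟩ => by
  rw [← Functor.map_comp_assoc]
  exact h (c ≫ g) l ⟨(whiskerRightIso (overMapCompIso c g) y).symm ≪≫ j⟩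

theorem isValue_overMap {T : Over S} (a : T ⟶ U) :
    IsValue x p (BasedFunctor.comp (_root_.AlgSt.overMap a) x) ((AlgSp.yon S).map a ≫ p) := fun _ c l ⟨j⟩ => by
  rw [← Functor.map_comp_assoc]
  exact hp (c ≫ a) l ⟨(whiskerRightIso (overMapCompIso c a) x).symm ≪≫ j⟩

/-- The map of a stack to a sheaf given on an atlas. -/
theorem exists_toSheaf (h𝒳 : _root_.FibCat.IsFibGrpd 𝒳.p) :
    ∃ π : 𝒳 ⥤ᵇ ofSp X, ∀ ⦃T : Over S⦄ (y : _root_.FibCat.overCat T ⥤ᵇ 𝒳),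
      IsValue x p y (spHom (BasedFunctor.comp (BasedFunctor.comp (toOverCat T) y) π)) := by
  have key : ∀ η : 𝒳.obj, ∃ z : (AlgSp.yon S).obj (𝒳.p.obj η) ⟶ X,
      ∀ (y : _root_.FibCat.overCat (𝒳.p.obj η) ⥤ᵇ 𝒳) (e : y.obj (Yon.idObj _) ≅ η),
        𝒳.p.IsHomLift (𝟙 (𝒳.p.obj η)) e.hom → IsValue x p y z := fun η => by
    obtain ⟨y₀, e₀, he₀⟩ := Yon.exists_functor h𝒳 (U := 𝒳.p.obj η) η rfl
    obtain ⟨z, hz⟩ := exists_value x p hsm hsu hp y₀
    refine ⟨z, fun y e he => hz.of_iso x p (Yon.isoOfIdObj h𝒳 (e₀ ≪≫ e.symm) ?_)⟩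
    have : 𝒳.p.IsHomLift (𝟙 (𝒳.p.obj η)) e.inv := isHomLift_id_inv 𝒳.p (R := 𝒳.p.obj η) e
    change 𝒳.p.IsHomLift _ (e₀.hom ≫ e.inv)
    infer_instance
  choose z hz using key
  have nat : ∀ {η η' : 𝒳.obj} (φ : η ⟶ η'), (AlgSp.yon S).map (𝒳.p.map φ) ≫ z η' = z η := by
    intro η η' φ
    obtain ⟨y', e', he'⟩ := Yon.exists_functor h𝒳 (U := 𝒳.p.obj η') η' rfl
    obtain ⟨y, e, he⟩ := Yon.exists_functor h𝒳 (U := 𝒳.p.obj η) η rfl
    let g := 𝒳.p.map φ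
    let y₁ := BasedFunctor.comp (_root_.AlgSt.overMap g) y'
    let a : (_root_.AlgSt.overMap g).obj (Yon.idObj (𝒳.p.obj η)) ⟶ Yon.idObj (𝒳.p.obj η') := Yon.toId _
    have ha : 𝒳.p.IsHomLift g (y'.map a ≫ e'.hom) := by
      have h1 : (_root_.FibCat.overCat (𝒳.p.obj η')).p.IsHomLift g a :=
        IsHomLift.of_fac' _ _ _ rfl rfl (by
          change 𝟙 _ ≫ g = 𝟙 _ ≫ g ≫ 𝟙 _
          simp)
      have h2 : 𝒳.p.IsHomLift g (y'.map a) := inferInstance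
      exact IsHomLift.comp_lift_id_right' 𝒳.p g (y'.map a) (𝒳.p.obj η') e'.hom
    have hφ : 𝒳.p.IsHomLift g φ := IsHomLift.map 𝒳.p φ
    obtain ⟨j, hj, -⟩ := @IsFibGrpd.exists_iso_of_lifts _ _ _ _ _ h𝒳 _ _ g _ _ _ φ (y'.map a ≫ e'.hom) hφ ha
    exact IsValue.unique x p hsm hsu ((hz η' y' e' he').comp x p g) (hz η y₁ j hj)
  refine ⟨{
    toFunctor :=
      { obj := fun η => ⟨𝒳.p.obj η, (AlgSp.J S).uliftYonedaEquiv.{u + 1} (z η)⟩
        map := fun {η η'} φ => ⟨𝒳.p.map φ,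
          (GrothendieckTopology.uliftYonedaEquiv_naturality _ _ _).trans (congrArg _ (nat φ))⟩
        map_id := fun η => Stk.EltObj.hom_ext (𝒳.p.map_id η)
        map_comp := fun φ ψ => Stk.EltObj.hom_ext (𝒳.p.map_comp φ ψ) }
    w := rfl }, fun T y => ?_⟩
  let η := y.obj (Yon.idObj T)
  have hT : 𝒳.p.obj η = T := y.w_obj _
  intro V c l hl
  have h1 := (hz η) (BasedFunctor.comp (_root_.AlgSt.overMap (eqToHom hT)) y)
    (y.toFunctor.mapIso (Over.isoMk (eqToIso hT) (by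
      change eqToHom hT ≫ 𝟙 T = 𝟙 _ ≫ eqToHom hT
      simp))) (by
      refine IsHomLift.of_fac' _ _ _ ((y.w_obj _).trans rfl) rfl ?_
      rw [Functor.mapIso_hom, p_map_map]
      change eqToHom _ ≫ eqToHom hT ≫ eqToHom _ = _
      simp)
  have h2 := h1.comp x p (eqToHom hT.symm)
  have h3 : IsValue x p y ((AlgSp.yon S).map (eqToHom hT.symm) ≫ z η) := h2.of_iso x p
    ((whiskerRightIso (overMapCompIso (eqToHom hT.symm) (eqToHom hT) ≪≫
      eqToIso (congrArg GrothLib.FibCat.overMap (by simp))) y) ≪≫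
      whiskerRightIso (isoOverMap (BasedFunctor.id (_root_.FibCat.overCat T)) ≪≫
        eqToIso (congrArg GrothLib.FibCat.overMap (sliceHom_id T))).symm y)
  refine Eq.trans ?_ (h3 c l hl)
  congr 1
  apply (AlgSp.J S).uliftYonedaEquiv.{u + 1}.injective
  rw [← GrothendieckTopology.uliftYonedaEquiv_naturality]
  rfl

end GrothLib.AlgSt.Rigid
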