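import Groth.Agent.Lib.AlgSt.InertiaDiag
import Groth.Agent.Lib.AlgSt.DiagMor
import Groth.Agent.Lib.FibCat.Comparison

/-!
# The kernel pair of the comparison of fibre products
-/

set_option backward.isDefEq.respectTransparency false
set_option backward.isDefEq.respectTransparency.types false

universe u

open CategoryTheory CategoryTheory.Limits AlgebraicGeometry

namespace GrothLib.AlgSt.Rigid

open _root_.AlgSt GrothLib.FibCat

variable {S : Scheme.{u}} {𝒳 𝒴 𝒵 𝒳' 𝒲 : _root_.AlgSt.Cat S} {P : MorphismProperty (AlgSp.Sp S)}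

/-- The kernel pair of a base change is the base change of the kernel pair. -/
theorem repByAlgSpWith_kernelPair_fpFst (Δ : 𝒳 ⥤ᵇ 𝒲) (z : 𝒴 ⥤ᵇ 𝒲)
    (h : RepByAlgSpWith P (_root_.FibCat.fpFst Δ Δ)) :
    RepByAlgSpWith P (_root_.FibCat.fpFst (_root_.FibCat.fpFst z Δ) (_root_.FibCat.fpFst z Δ)) := by
  let q := _root_.FibCat.fpSnd z Δ
  have h1 : RepByAlgSpWith P (_root_.FibCat.fpFst q (_root_.FibCat.fpFst Δ Δ)) := repByAlgSpWith_fpFst q h
  have h2 : RepByAlgSpWith P (_root_.FibCat.fpFst (BasedFunctor.comp q Δ) Δ) :=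
    (repByAlgSpWith_iff_of_square (f' := _root_.FibCat.fpFst q (_root_.FibCat.fpFst Δ Δ))
      (f := _root_.FibCat.fpFst (BasedFunctor.comp q Δ) Δ) (Fp.paste Δ Δ q) (BasedFunctor.id _)
      (Fp.isEquivOver_paste Δ Δ q) (IsEquivOver.refl _) (Iso.refl _)).2 h1
  let A := BasedFunctor.comp (Fp.paste Δ z (_root_.FibCat.fpFst z Δ))
    (Fp.congr (_root_.FibCat.fpIso z Δ) (Iso.refl Δ))
  exact (repByAlgSpWith_iff_of_square (f' := _root_.FibCat.fpFst (_root_.FibCat.fpFst z Δ) (_root_.FibCat.fpFst z Δ))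
    (f := _root_.FibCat.fpFst (BasedFunctor.comp q Δ) Δ) A (BasedFunctor.id _)
    (IsEquivOver.comp (Fp.isEquivOver_paste _ _ _) (Fp.isEquivOver_congr _ _)) (IsEquivOver.refl _) (Iso.refl _)).1 h2

/-- The kernel pair of the comparison `𝒳 ×_𝒴 𝒳' ⟶ 𝒳 ×_𝒵 𝒳'` has the property of the relative inertia. -/
theorem repByAlgSpWith_kernelPair_fpToFp (h𝒳' : _root_.FibCat.IsFibGrpd 𝒳'.p) (f : 𝒳 ⥤ᵇ 𝒴) (f' : 𝒳' ⥤ᵇ 𝒴)
    (g : 𝒴 ⥤ᵇ 𝒵) (h : RepByAlgSpWith P (_root_.FibCat.inertiaToBase g)) :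
    RepByAlgSpWith P (_root_.FibCat.fpFst (GrothLib.FibCat.Cmp.fpToFp f f' g) (GrothLib.FibCat.Cmp.fpToFp f f' g)) := by
  have h' := repByAlgSpWith_kernelPair_fpFst (_root_.FibCat.diag g) (GrothLib.FibCat.Cmp.fpPair f f' g)
    ((repByAlgSpWith_inertiaToBase_iff g).1 h)
  let E := GrothLib.FibCat.Cmp.fpToFpLift f f' g
  have hE := GrothLib.FibCat.Cmp.isEquivOver_fpToFpLift h𝒳' f f' g
  let w := GrothLib.FibCat.Cmp.fpToFp f f' g
  let A : _root_.FibCat.fp w w ⥤ᵇ _root_.FibCat.fp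
      (_root_.FibCat.fpFst (GrothLib.FibCat.Cmp.fpPair f f' g) (_root_.FibCat.diag g))
      (_root_.FibCat.fpFst (GrothLib.FibCat.Cmp.fpPair f f' g) (_root_.FibCat.diag g)) :=
    Fp.map E E (BasedFunctor.id _) (Iso.refl _) (Iso.refl _)
  have hA : _root_.FibCat.IsEquivOver A :=
    have := IsEquivOver.full (IsEquivOver.refl (_root_.FibCat.fp (BasedFunctor.comp f g) (BasedFunctor.comp f' g)))
    have := IsEquivOver.faithful (IsEquivOver.refl (_root_.FibCat.fp (BasedFunctor.comp f g) (BasedFunctor.comp f' g)))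
    Fp.isEquivOver_map _ _ _ _ _ hE hE
  exact (repByAlgSpWith_iff_of_square (f' := _root_.FibCat.fpFst w w)
    (f := _root_.FibCat.fpFst (_root_.FibCat.fpFst (GrothLib.FibCat.Cmp.fpPair f f' g) (_root_.FibCat.diag g))
      (_root_.FibCat.fpFst (GrothLib.FibCat.Cmp.fpPair f f' g) (_root_.FibCat.diag g)))
    A E hA hE (Iso.refl _)).1 h'

end GrothLib.AlgSt.Rigid
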