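import Groth.Agent.Lib.AlgSt.Gerbe.Rigid.ChartPoint
import Groth.Agent.Lib.AlgSt.FieldChart

/-!
# Residual gerbes on locally Noetherian stacks
-/

set_option backward.isDefEq.respectTransparency false
set_option backward.isDefEq.respectTransparency.types false

universe u

open CategoryTheory CategoryTheory.Limits AlgebraicGeometry Opposite

namespace GrothLib.AlgSt.Rigid

open _root_.AlgSt GrothLib.FibCat

variable {S : Scheme.{u}} {𝒳 : _root_.AlgSt.Cat S}

/-- The chart of `κ(u) ×_𝒳 U` lands in the fibre of the chart over the point. -/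
theorem ofChart_eq_of_lift {U : Over S} (w : _root_.FibCat.overCat U ⥤ᵇ 𝒳) (u : ↥U.left) (F : AlgSp.Space S)
    (e : ofSp F.obj ⥤ᵇ _root_.FibCat.fp (resChart w u) w) (G : Over S) (q : (AlgSp.yon S).obj G ⟶ F.obj)
    (b : G ⟶ U) (hb : (AlgSp.yon S).map b =
      q ≫ spMapOfOver (BasedFunctor.comp e (_root_.FibCat.fpSnd (resChart w u) w))) (g : ↥G.left) :
    Points.ofChart w (b.left g) = Points.ofChart w u := by
  let L := BasedFunctor.comp (ofOverCat G) (BasedFunctor.comp (ofSpMap q) e)
  let k := BasedFunctor.comp L (_root_.FibCat.fpSnd (resChart w u) w)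
  have hk : sliceHom k = b := (AlgSp.yon S).map_injective (by
    rw [← spMapOfOver_overMap, ← spMapOfOver_congr (whiskerLeftIso (toOverCat G) (isoOverMap k))]
    refine (spMapOfOver_congr (whiskerRightIso (toOverCatCompIso G)
      (BasedFunctor.comp (ofSpMap q) (BasedFunctor.comp e (_root_.FibCat.fpSnd (resChart w u) w))))).trans ?_
    refine (spMapOfOver_comp (ofSpMap q) (BasedFunctor.comp e (_root_.FibCat.fpSnd (resChart w u) w))).trans ?_
    rw [spHom_ofSpMap]
    exact hb.symm)
  refine (ofChart_overMap b w g).symm.trans ?_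
  refine (ofChart_congr (x := BasedFunctor.comp (GrothLib.FibCat.overMap b) w)
    ((eqToIso (congrArg (fun c => BasedFunctor.comp (GrothLib.FibCat.overMap c) w) hk.symm)) ≪≫
      whiskerRightIso (isoOverMap k).symm w ≪≫
      (whiskerLeftIso L (_root_.FibCat.fpIso (resChart w u) w)).symm) g).trans ?_
  rw [show Points.ofChart (BasedFunctor.comp L (BasedFunctor.comp (_root_.FibCat.fpFst (resChart w u) w) (resChart w u))) g =
    Points.map (resChart w u) (Points.ofChart (BasedFunctor.comp L (_root_.FibCat.fpFst (resChart w u) w)) g) from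
      ofChart_comp (BasedFunctor.comp L (_root_.FibCat.fpFst (resChart w u) w)) (resChart w u) g, map_eq_ofChart_pointOf]
  exact ofChart_resChart w u _

theorem resGerbeExists_of_noetherian (h𝒳 : IsAlgStack Scheme.fppfPrecoverage 𝒳)
    (hN : SmoothLocally (fun T => IsLocallyNoetherian T) 𝒳) (x : Points 𝒳) :
    Gerb.ResGerbeExists Scheme.fppfPrecoverage 𝒳 x := by
  have g𝒳 := h𝒳.isStack.1
  obtain ⟨W, w, hw, hws⟩ := h𝒳.atlas
  obtain ⟨v, hv⟩ := surjective_ofChart g𝒳 hws x
  obtain ⟨V, hV, hvV, -⟩ := exists_isAffineOpen_mem_and_subset (x := v) (U := (⊤ : W.left.Opens)) trivial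
  have : IsLocallyNoetherian W.left := hN W w hw
  let U : Over S := Over.mk (V.ι ≫ W.hom)
  let jV : U ⟶ W := Over.homMk V.ι rfl
  have : IsAffine U.left := hV
  have : IsLocallyNoetherian U.left := isLocallyNoetherian_of_isOpenImmersion (Y := W.left) V.ι
  have : CompactSpace ↥U.left := inferInstance
  have : IsNoetherian U.left := ⟨⟩
  have : TopologicalSpace.NoetherianSpace ↥U.left := inferInstance
  let w' := BasedFunctor.comp (GrothLib.FibCat.overMap jV) w
  have hsm : RepByAlgSpWith (AlgSp.LocP @Smooth) w' :=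
    repByAlgSpWith_overMap_comp GrothLib.AlgSp.EtLocal.smooth g𝒳 jV (inferInstanceAs (Smooth V.ι)) w hw
  have hlft : RepByAlgSpWith (AlgSp.LocP @LocallyOfFiniteType) w' :=
    repByAlgSpWith_mono (fun _ _ _ _ _ h => GrothLib.AlgSp.locP_mono
      (fun _ _ g (_ : Smooth g) => (inferInstance : LocallyOfFiniteType g)) h) hsm
  -- a point closed in the trace of `x`
  let C : ↥U.left → TopologicalSpace.Closeds ↥U.left := fun t => ⟨closure {t}, isClosed_closure⟩
  have hne : (C '' (Points.ofChart w' ⁻¹' {x})).Nonempty :=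
    Set.Nonempty.image _ ⟨(⟨v, hvV⟩ : (V : Scheme.{u})), (ofChart_overMap jV w _).trans hv⟩
  obtain ⟨_, ⟨u, hu, rfl⟩, hmin⟩ := WellFounded.has_min (wellFounded_lt (α := TopologicalSpace.Closeds ↥U.left)) _ hne
  obtain ⟨F, e, he⟩ := repByAlgSp1_of_repByAlgSpWith hlft (resPt U u) (resChart w' u)
  obtain ⟨G, q, qe, qs⟩ := F.property.atlas
  obtain ⟨b, hb⟩ := (AlgSp.yon S).map_surjective
    (q ≫ spMapOfOver (BasedFunctor.comp e (_root_.FibCat.fpSnd (resChart w' u) w')))
  have hux : Points.ofChart w' u = x := hu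
  rw [← hux]
  refine resGerbeExists_of_chartPoint h𝒳 w' hlft u F e he G q qe qs b hb ?_
  have : b.left ⁻¹' {u} = b.left ⁻¹' closure {u} := by
    refine Set.Subset.antisymm (Set.preimage_mono subset_closure) fun g hg => ?_
    have hgx : b.left g ∈ Points.ofChart w' ⁻¹' {x} := (ofChart_eq_of_lift w' u F e G q b hb g).trans hux
    have hle : C (b.left g) ≤ C u :=
      show closure {b.left g} ⊆ closure {u} from
        closure_minimal (Set.singleton_subset_iff.2 hg) isClosed_closure
    have heq : C (b.left g) = C u :=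
      (eq_or_lt_of_le hle).resolve_right (hmin _ ⟨_, hgx, rfl⟩)
    exact (inseparable_iff_closure_eq.2 (congrArg (fun c : TopologicalSpace.Closeds _ => (c : Set ↥U.left)) heq)).eq
  rw [this]
  exact (isClosed_closure.preimage b.left.continuous).isLocallyClosed

end GrothLib.AlgSt.Rigid
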