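import Groth.Agent.Lib.AlgSt.Gerbe.Rigid.Transfer
import Groth.Agent.Lib.AlgSt.Gerbe.Rigid.ChartPoint
import Groth.Agent.Lib.AlgSt.Gerbe.Rigid.Noetherian
import Groth.Agent.Lib.AlgSp.RedInduced
import Groth.Agent.Lib.AlgSt.ReducedSub

/-!
# Residual gerbes exist
-/

set_option backward.isDefEq.respectTransparency false
set_option backward.isDefEq.respectTransparency.types false

universe u

open CategoryTheory CategoryTheory.Limits AlgebraicGeometry Opposite

namespace GrothLib.AlgSt.Rigid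

open _root_.AlgSt GrothLib.FibCat

variable {S : Scheme.{u}} {𝒳 : _root_.AlgSt.Cat S}

theorem sliceHom_comp_overMap' {A B C : Over S} (k : _root_.FibCat.overCat A ⥤ᵇ _root_.FibCat.overCat B) (g : B ⟶ C) :
    sliceHom (BasedFunctor.comp k (GrothLib.FibCat.overMap g)) = sliceHom k ≫ g :=
  (sliceHom_congr (whiskerRightIso (isoOverMap k) (GrothLib.FibCat.overMap g))).trans (sliceHom_comp_overMap _ g)

/-- The morphism of a chart followed by a functor to a slice. -/
theorem sliceHom_chart {F : AlgSp.Sp S} {𝒲 : _root_.AlgSt.Cat S} {G U : Over S} (q : (AlgSp.yon S).obj G ⟶ F)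
    (e : ofSp F ⥤ᵇ 𝒲) (f : 𝒲 ⥤ᵇ _root_.FibCat.overCat U) (b : G ⟶ U)
    (hb : (AlgSp.yon S).map b = q ≫ spMapOfOver (BasedFunctor.comp e f)) :
    sliceHom (BasedFunctor.comp (BasedFunctor.comp (ofOverCat G) (BasedFunctor.comp (ofSpMap q) e)) f) = b := by
  let k := BasedFunctor.comp (BasedFunctor.comp (ofOverCat G) (BasedFunctor.comp (ofSpMap q) e)) f
  refine (AlgSp.yon S).map_injective ?_
  rw [← spMapOfOver_overMap, ← spMapOfOver_congr (whiskerLeftIso (toOverCat G) (isoOverMap k))]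
  refine (spMapOfOver_congr (whiskerRightIso (toOverCatCompIso G)
    (BasedFunctor.comp (ofSpMap q) (BasedFunctor.comp e f)))).trans ?_
  refine (spMapOfOver_comp (ofSpMap q) (BasedFunctor.comp e f)).trans ?_
  rw [spHom_ofSpMap]
  exact hb.symm

/-- A minimal trace of a closed set is a single point. -/
theorem exists_minimal_trace {O U : Type u} [TopologicalSpace O] [TopologicalSpace U] [T0Space U]
    [TopologicalSpace.NoetherianSpace O] [Nonempty O] (f : O → U) (hf : Continuous f) :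
    ∃ g : O, ∀ g', f g' ∈ closure {f g} → f g' = f g := by
  let S₀ : Set (TopologicalSpace.Closeds O) :=
    {C | (C : Set O).Nonempty ∧ ∃ Z : Set U, IsClosed Z ∧ (C : Set O) = f ⁻¹' Z}
  obtain ⟨C, ⟨⟨g, hg⟩, Z, hZ, hC⟩, hmin⟩ :=
    WellFounded.has_min (wellFounded_lt (α := TopologicalSpace.Closeds O)) S₀
      ⟨⊤, Set.univ_nonempty, Set.univ, isClosed_univ, rfl⟩
  have key : ∀ a ∈ (C : Set O), ∀ b ∈ (C : Set O), f b ∈ closure {f a} := by
    intro a ha b hb
    let C' : TopologicalSpace.Closeds O := ⟨f ⁻¹' (Z ∩ closure {f a}), (hZ.inter isClosed_closure).preimage hf⟩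
    have hle : C' ≤ C := fun t ht => by
      change t ∈ (C : Set O)
      rw [hC]
      exact ht.1
    have hC' : C' ∈ S₀ := ⟨⟨a, hC.subset ha, subset_closure rfl⟩, _, hZ.inter isClosed_closure, rfl⟩
    have : b ∈ (C' : Set O) := by
      rw [(eq_or_lt_of_le hle).resolve_right (hmin C' hC')]
      exact hb
    exact this.2
  refine ⟨g, fun g' hg' => ?_⟩
  have hmem : g' ∈ (C : Set O) := by
    rw [hC]
    change f g' ∈ Z
    exact closure_minimal (Set.singleton_subset_iff.2 (show f g ∈ Z from hC.subset hg)) hZ hg'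
  exact ((inseparable_iff_mem_closure).2 ⟨key g hg g' hmem, key g' hmem g hg⟩).eq

/-- Residual gerbes exist at every point of an algebraic stack. -/
theorem resGerbeExists_all (h𝒳 : IsAlgStack Scheme.fppfPrecoverage 𝒳) (x : Points 𝒳) :
    Gerb.ResGerbeExists Scheme.fppfPrecoverage 𝒳 x := by
  have g𝒳 := h𝒳.isStack.1
  obtain ⟨W, w, hw, hws⟩ := h𝒳.atlas
  obtain ⟨v, hv⟩ := surjective_ofChart g𝒳 hws x
  obtain ⟨V, hV, hvV, -⟩ := exists_isAffineOpen_mem_and_subset (x := v) (U := (⊤ : W.left.Opens)) trivial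
  let U : Over S := Over.mk (V.ι ≫ W.hom)
  let jV : U ⟶ W := Over.homMk V.ι rfl
  let w₀ := BasedFunctor.comp (GrothLib.FibCat.overMap jV) w
  have hsm : RepByAlgSpWith (AlgSp.LocP @Smooth) w₀ :=
    repByAlgSpWith_overMap_comp GrothLib.AlgSp.EtLocal.smooth g𝒳 jV (inferInstanceAs (Smooth V.ι)) w hw
  have hlft : RepByAlgSpWith (AlgSp.LocP @LocallyOfFiniteType) w₀ :=
    repByAlgSpWith_mono (fun _ _ _ _ _ h => GrothLib.AlgSp.locP_mono
      (fun _ _ g (_ : Smooth g) => (inferInstance : LocallyOfFiniteType g)) h) hsm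
  let t₀ : ↥U.left := (⟨v, hvV⟩ : (V : Scheme.{u}))
  have ht₀ : Points.ofChart w₀ t₀ = x := (ofChart_overMap jV w t₀).trans hv
  let K := resPt U t₀
  let z₀ := resChart w₀ t₀
  obtain ⟨F, e, he, ha⟩ := hlft K z₀
  obtain ⟨G, q, qe, qs⟩ := F.property.atlas
  obtain ⟨l, hl⟩ := (AlgSp.yon S).map_surjective (q ≫ spMapOfOver (BasedFunctor.comp e (_root_.FibCat.fpFst z₀ w₀)))
  obtain ⟨b, hb⟩ := (AlgSp.yon S).map_surjective (q ≫ spMapOfOver (BasedFunctor.comp e (_root_.FibCat.fpSnd z₀ w₀)))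
  have : LocallyOfFiniteType l.left :=
    ha q (𝟙 _) l qe (AlgSp.repWith_id _ _) (by rw [hl, Category.comp_id])
  have : IsLocallyNoetherian K.left :=
    inferInstanceAs (IsLocallyNoetherian (Spec (U.left.residueField t₀)))
  have : IsLocallyNoetherian G.left := LocallyOfFiniteType.isLocallyNoetherian l.left
  -- the trace is nonempty
  have hGne : Nonempty ↥G.left := by
    let c₀ : ↥K.left := IsLocalRing.closedPoint (U.left.residueField t₀)
    obtain ⟨p, -, -⟩ := exists_points_fp (isFibGrpd_overCat U) (isFibGrpd_overCat K) g𝒳 w₀ z₀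
      (Points.ofChart (BasedFunctor.id _) c₀) (Points.ofChart (BasedFunctor.id _) t₀)
      ((ofChart_eq_map z₀ c₀).symm.trans ((ofChart_resChart w₀ t₀ c₀).trans (ofChart_eq_map w₀ t₀)))
    obtain ⟨r, -⟩ := (points_map_bijective_of_isEquivOver (isFibGrpd_ofSp F.obj) e he).2 p
    obtain ⟨s, -⟩ := GrothLib.AlgSp.surjective_map_of_repWith qs (toSpPoints r)
    exact ⟨AlgSp.Points.toScheme G s⟩
  obtain ⟨g₁⟩ := hGne
  obtain ⟨O, hO, hgO, -⟩ := exists_isAffineOpen_mem_and_subset (x := g₁) (U := (⊤ : G.left.Opens)) trivial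
  have : IsAffine (O : Scheme.{u}) := hO
  have : IsLocallyNoetherian (O : Scheme.{u}) := isLocallyNoetherian_of_isOpenImmersion (Y := G.left) O.ι
  have : IsNoetherian (O : Scheme.{u}) := ⟨⟩
  have : Nonempty (O : Scheme.{u}) := ⟨⟨g₁, hgO⟩⟩
  obtain ⟨g, hg⟩ := exists_minimal_trace (fun t : (O : Scheme.{u}) => b.left (O.ι t))
    (b.left.continuous.comp O.ι.continuous)
  let u := b.left (O.ι g)
  have hux : Points.ofChart w₀ u = x := (ofChart_eq_of_lift w₀ t₀ F e G q b hb _).trans ht₀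
  -- the reduced closed chart
  let CT : TopologicalSpace.Closeds ↥U.left := ⟨closure {u}, isClosed_closure⟩
  let I := Scheme.IdealSheafData.vanishingIdeal CT
  let Z : Over S := Over.mk (I.subschemeι ≫ U.hom)
  let ι : Z ⟶ U := Over.homMk I.subschemeι rfl
  have hr : Set.range ι.left = closure {u} := RedSub.range_subschemeι_vanishingIdeal CT
  obtain ⟨u₁, hu₁⟩ : u ∈ Set.range ι.left := hr.symm.subset (subset_closure rfl)
  have : IsClosedImmersion ι.left := inferInstanceAs (IsClosedImmersion I.subschemeι)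
  let w₁ := BasedFunctor.comp (GrothLib.FibCat.overMap ι) w₀
  have hw₁ : RepByAlgSpWith (AlgSp.LocP @LocallyOfFiniteType) w₁ :=
    repByAlgSpWith_overMap_comp GrothLib.AlgSp.EtLocal.lft g𝒳 ι (inferInstance : LocallyOfFiniteType ι.left) w₀ hlft
  have hu₁x : Points.ofChart w₁ u₁ = x :=
    (ofChart_overMap ι w₀ u₁).trans ((congrArg (Points.ofChart w₀) hu₁).trans hux)
  obtain ⟨F', e', he', -⟩ := hw₁ (resPt Z u₁) (resChart w₁ u₁)
  obtain ⟨G', q', qe', qs'⟩ := F'.property.atlas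
  obtain ⟨b', hb'⟩ := (AlgSp.yon S).map_surjective
    (q' ≫ spMapOfOver (BasedFunctor.comp e' (_root_.FibCat.fpSnd (resChart w₁ u₁) w₁)))
  rw [← hu₁x]
  refine resGerbeExists_of_chartPoint h𝒳 w₁ hw₁ u₁ F' e' he' G' q' qe' qs' b' hb' (IsOpen.isLocallyClosed ?_)
  let L₁ := BasedFunctor.comp (ofOverCat G') (BasedFunctor.comp (ofSpMap q') e')
  let L' : _root_.FibCat.overCat G' ⥤ᵇ _root_.FibCat.fp (resChart w₁ u₁) w₀ :=
    _root_.FibCat.fpLift (BasedFunctor.comp L₁ (_root_.FibCat.fpFst (resChart w₁ u₁) w₁))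
      (BasedFunctor.comp (BasedFunctor.comp L₁ (_root_.FibCat.fpSnd (resChart w₁ u₁) w₁)) (GrothLib.FibCat.overMap ι))
      (whiskerLeftIso L₁ (_root_.FibCat.fpIso (resChart w₁ u₁) w₁))
  let L := BasedFunctor.comp (ofOverCat G) (BasedFunctor.comp (ofSpMap q) e)
  have hd : sliceHom (BasedFunctor.comp L (_root_.FibCat.fpSnd z₀ w₀)) = b := sliceHom_chart q e _ b hb
  have hd' : sliceHom (BasedFunctor.comp L' (_root_.FibCat.fpSnd (resChart w₁ u₁) w₀)) = b' ≫ ι :=
    (sliceHom_comp_overMap' (BasedFunctor.comp L₁ (_root_.FibCat.fpSnd (resChart w₁ u₁) w₁)) ι).trans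
      (congrArg (· ≫ ι) (sliceHom_chart q' e' _ b' hb'))
  have hat : HasAtlas (AlgSp.LocP @Smooth) (_root_.FibCat.fp z₀ w₀) := (isDM_of_repByAlgSp ⟨F, e, he⟩).1.atlas
  have hL : RepByAlgSpWith (AlgSp.LocP @Smooth) L :=
    repByAlgSpWith_comp_chart (fun _ _ _ _ _ b a hb _ ha => locP_etale_comp b a hb ha)
      (repByAlgSpWith_id (P := AlgSp.LocP (S := S) @Smooth) locP_smooth_id (_root_.FibCat.fp z₀ w₀)) e he qe qs
  have : IsIntegral (resPt Z u₁).left := inferInstanceAs (IsIntegral (Spec (Z.left.residueField u₁)))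
  have : Subsingleton ↥(resPt Z u₁).left :=
    inferInstanceAs (Subsingleton (PrimeSpectrum (Z.left.residueField u₁)))
  refine isOpen_iff_forall_mem_open.2 fun g' hg' => ?_
  obtain ⟨Ω, hΩo, hgΩ, hΩ⟩ := exists_open_nhd_transfer z₀ (resChart w₁ u₁) w₀ L L' g𝒳 hat hL (O : Set ↥G.left) O.2
    (O.ι g) g.2 g' (by
      rw [hd, hd', Over.comp_left, Scheme.Hom.comp_apply, Set.mem_singleton_iff.1 hg']
      exact hu₁)
  refine ⟨Ω, fun t ht => ?_, hΩo, hgΩ⟩
  obtain ⟨t₁, ht₁, he₁⟩ := hΩ t ht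
  rw [hd, hd', Over.comp_left, Scheme.Hom.comp_apply] at he₁
  have hmem : b.left (O.ι ⟨t₁, ht₁⟩) ∈ closure {u} := by
    change b.left t₁ ∈ _
    rw [← he₁, ← hr]
    exact ⟨_, rfl⟩
  exact ι.left.isClosedEmbedding.injective (he₁.trans ((hg ⟨t₁, ht₁⟩ hmem).trans hu₁.symm))

end GrothLib.AlgSt.Rigid
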