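import Groth.Agent.Lib.AlgSp.QuotSpace
import Groth.Agent.Lib.AlgSp.SourceLocal
import Groth.Agent.Lib.FppfSource.Scheme

/-!
# Images of fppf-flat kernel pairs
-/

universe u

open CategoryTheory CategoryTheory.Limits AlgebraicGeometry Opposite

namespace GrothLib.AlgSt.Rigid

open _root_.AlgSp GrothLib.AlgSp

variable {S : Scheme.{u}} {F E Y : Sp S}

/-- A morphism into the target of a monomorphism factors if it does so locally. -/
theorem exists_lift_of_locally (m : E ⟶ Y) [Mono m] {T : Over S} (g : (yon S).obj T ⟶ Y) {R : Sieve T}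
    (hR : R ∈ J S T) (h : ∀ ⦃V : Over S⦄ (f : V ⟶ T), R.arrows f →
      ∃ l : (yon S).obj V ⟶ E, l ≫ m = (yon S).map f ≫ g) : ∃ r : (yon S).obj T ⟶ E, r ≫ m = g := by
  choose l hl using h
  have hEsh := (isSheaf_iff_isSheaf_of_type _ _).1 E.property R hR
  have hYsh := ((isSheaf_iff_isSheaf_of_type _ _).1 Y.property R hR).isSeparatedFor
  let fam : Presieve.FamilyOfElements E.obj R.arrows := fun V f hf => (J S).uliftYonedaEquiv.{u + 1} (l f hf)
  have hfam : fam.Compatible := by
    intro V₁ V₂ W g₁ g₂ f₁ f₂ hf₁ hf₂ e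
    have h' : (yon S).map g₁ ≫ l f₁ hf₁ = (yon S).map g₂ ≫ l f₂ hf₂ := by
      rw [← cancel_mono m, Category.assoc, Category.assoc, hl, hl, ← Functor.map_comp_assoc, ← Functor.map_comp_assoc, e]
    have h'' := congrArg ((J S).uliftYonedaEquiv.{u + 1}) h'
    change E.obj.map g₁.op ((J S).uliftYonedaEquiv.{u + 1} (l f₁ hf₁)) =
      E.obj.map g₂.op ((J S).uliftYonedaEquiv.{u + 1} (l f₂ hf₂))
    rw [GrothendieckTopology.uliftYonedaEquiv_naturality, GrothendieckTopology.uliftYonedaEquiv_naturality]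
    exact h''
  refine ⟨(J S).uliftYonedaEquiv.{u + 1}.symm (hEsh.amalgamate fam hfam), ?_⟩
  apply (J S).uliftYonedaEquiv.{u + 1}.injective
  rw [GrothendieckTopology.uliftYonedaEquiv_comp, Equiv.apply_symm_apply]
  refine hYsh.ext fun V f hf => ?_
  have e := congrArg ((J S).uliftYonedaEquiv.{u + 1}) (hl f hf)
  rw [GrothendieckTopology.uliftYonedaEquiv_comp] at e
  rw [← NatTrans.naturality_apply m.hom f.op, hEsh.valid_glue hfam f hf]
  rw [← GrothendieckTopology.uliftYonedaEquiv_naturality] at e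
  exact e

/-- Morphisms from a scheme which agree locally are equal. -/
theorem eq_of_locally {T : Over S} (a b : (yon S).obj T ⟶ E) {R : Sieve T} (hR : R ∈ J S T)
    (h : ∀ ⦃V : Over S⦄ (f : V ⟶ T), R.arrows f → (yon S).map f ≫ a = (yon S).map f ≫ b) : a = b := by
  apply (J S).uliftYonedaEquiv.{u + 1}.injective
  refine ((isSheaf_iff_isSheaf_of_type _ _).1 E.property R hR).isSeparatedFor.ext fun V f hf => ?_
  rw [GrothendieckTopology.uliftYonedaEquiv_naturality, GrothendieckTopology.uliftYonedaEquiv_naturality]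
  exact congrArg _ (h f hf)

/-- Sections of a locally surjective map lift locally. -/
theorem exists_locally_lift (π : F ⟶ E) [Sheaf.IsLocallySurjective π] {T : Over S} (g : (yon S).obj T ⟶ E) :
    ∃ R ∈ J S T, ∀ ⦃V : Over S⦄ (f : V ⟶ T), R.arrows f →
      ∃ l : (yon S).obj V ⟶ F, l ≫ π = (yon S).map f ≫ g := by
  refine ⟨Presheaf.imageSieve π.hom ((J S).uliftYonedaEquiv.{u + 1} g),
    Presheaf.imageSieve_mem (J S) π.hom _, fun V f hf => ?_⟩
  obtain ⟨t, ht⟩ := hf
  refine ⟨(J S).uliftYonedaEquiv.{u + 1}.symm t, ?_⟩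
  apply (J S).uliftYonedaEquiv.{u + 1}.injective
  rw [GrothendieckTopology.uliftYonedaEquiv_comp, Equiv.apply_symm_apply,
    ← GrothendieckTopology.uliftYonedaEquiv_naturality]
  exact ht

theorem isEqvRelSp_kernelPair (j : F ⟶ Y) : IsEqvRelSp (pullback.fst j j) (pullback.snd j j) where
  injective _ _ _ h₁ h₂ := pullback.hom_ext h₂ h₁
  equivalence T :=
    { refl := fun a => ⟨pullback.lift a a rfl, pullback.lift_snd _ _ _, pullback.lift_fst _ _ _⟩
      symm := fun ⟨r, h₁, h₂⟩ => ⟨pullback.lift (r ≫ pullback.snd j j) (r ≫ pullback.fst j j)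
        (by rw [Category.assoc, Category.assoc, pullback.condition]),
        (pullback.lift_snd _ _ _).trans h₂, (pullback.lift_fst _ _ _).trans h₁⟩
      trans := fun ⟨r, h₁, h₂⟩ ⟨r', h₁', h₂'⟩ => by
        have e₁ : r' ≫ pullback.fst j j ≫ j = r' ≫ pullback.snd j j ≫ j := by rw [pullback.condition]
        have e₂ : r ≫ pullback.fst j j ≫ j = r ≫ pullback.snd j j ≫ j := by rw [pullback.condition]
        exact ⟨pullback.lift (r' ≫ pullback.fst j j) (r ≫ pullback.snd j j) (by
          rw [Category.assoc, Category.assoc, e₁, ← Category.assoc, h₁', ← h₂, Category.assoc, e₂]),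
          (pullback.lift_snd _ _ _).trans h₁, (pullback.lift_fst _ _ _).trans h₂'⟩ }

/-- If the kernel pair of `j` is fppf flat, then the image of `j` is an algebraic space. -/
theorem exists_image (hF : IsAlgSpace F) (hY : IsAlgSpace Y) (j : F ⟶ Y)
    (h : LocP @Flat (pullback.fst j j) ∧ LocP @LocallyOfFinitePresentation (pullback.fst j j)) :
    ∃ (E : Sp S) (π : F ⟶ E) (m : E ⟶ Y), IsAlgSpace E ∧ Mono m ∧ π ≫ m = j ∧ Sheaf.IsLocallySurjective π ∧
      IsSurjectiveMor π ∧ LocP @Flat π ∧ LocP @LocallyOfFinitePresentation π := by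
  have hK := isAlgSpace_pullback' hY hF hF j j
  have he := isEqvRelSp_kernelPair j
  let π := quotSpπ (pullback.fst j j) (pullback.snd j j)
  let m : quotSp (pullback.fst j j) (pullback.snd j j) ⟶ Y := quotSpDesc j pullback.condition
  have hm : π ≫ m = j := quotSpπ_desc _ _ _ _
  have hπ : Sheaf.IsLocallySurjective π := by
    rw [Sheaf.isLocallySurjective_iff_epi]
    exact coequalizer.π_epi
  obtain ⟨h₁, h₂, h₃⟩ := quotSpπ_props hK hF he h
  refine ⟨_, π, m, isAlgSpace_quotSp hK hF he h, mono_of_yon fun T a b hab => ?_, hm, hπ, h₁, h₂, h₃⟩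
  obtain ⟨R₁, hR₁, ha⟩ := exists_locally_lift π a
  obtain ⟨R₂, hR₂, hb⟩ := exists_locally_lift π b
  refine eq_of_locally a b ((J S).intersection_covering hR₁ hR₂) fun V f hf => ?_
  obtain ⟨la, hla⟩ := ha f hf.1
  obtain ⟨lb, hlb⟩ := hb f hf.2
  have hj : la ≫ j = lb ≫ j := by
    rw [← hm, ← Category.assoc, ← Category.assoc, hla, hlb, Category.assoc, Category.assoc, hab]
  rw [← hla, ← hlb, ← pullback.lift_fst la lb hj]
  conv_rhs => rw [← pullback.lift_snd la lb hj]
  rw [Category.assoc, Category.assoc, quotSp_condition]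

/-- `LocP` descends along a surjective flat locally finitely presented map to the source. -/
theorem flat_lfp_of_comp (hF : IsAlgSpace F) (hE : IsAlgSpace E) (hY : IsAlgSpace Y) {π : F ⟶ E}
    (hs : IsSurjectiveMor π) (h₁ : LocP @Flat π) (h₂ : LocP @LocallyOfFinitePresentation π) {s : E ⟶ Y}
    (h : LocP @Flat (π ≫ s) ∧ LocP @LocallyOfFinitePresentation (π ≫ s)) :
    LocP @Flat s ∧ LocP @LocallyOfFinitePresentation s := by
  have hC : LocP (@Flat ⊓ @LocallyOfFinitePresentation) π := fun _ _ a b k ha hb comm =>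
    ⟨h₁ a b k ha hb comm, h₂ a b k ha hb comm⟩
  have hC' : ∀ ⦃A B : Scheme.{u}⦄ (c : A ⟶ B), Etale c → (@Flat ⊓ @LocallyOfFinitePresentation) c :=
    fun _ _ c (_ : Etale c) => ⟨inferInstance, inferInstance⟩
  have : IsZariskiLocalAtSource (@Flat : MorphismProperty Scheme.{u}) :=
    HasRingHomProperty.instIsZariskiLocalAtSource
  have : IsZariskiLocalAtSource (@LocallyOfFinitePresentation : MorphismProperty Scheme.{u}) :=
    HasRingHomProperty.instIsZariskiLocalAtSource
  have : IsZariskiLocalAtSource (@Flat ⊓ @LocallyOfFinitePresentation : MorphismProperty Scheme.{u}) :=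
    MorphismProperty.IsLocalAtSource.inf (@Flat : MorphismProperty Scheme.{u})
      (@LocallyOfFinitePresentation : MorphismProperty Scheme.{u})
  exact ⟨locP_of_surjective_source (EtLocal.flat.inf EtLocal.lfp) hC' EtLocal.flat
      (srcDescends_mono (fun _ _ _ hc => hc.1) srcDescends_flat) hF hE hY hC hs h.1,
    locP_of_surjective_source (EtLocal.flat.inf EtLocal.lfp) hC' EtLocal.lfp
      (srcDescends_fppf GrothLib.FppfSource.fppfSourceDescends_lfp) hF hE hY hC hs h.2⟩

end GrothLib.AlgSt.Rigid
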