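import Groth.Agent.Lib.AlgSt.Gerbe.Rigid.Quot
import Groth.Agent.Lib.AlgSt.LocQRep
import Groth.Agent.Lib.AlgSt.DiagLFP
import Groth.Agent.Lib.AlgSt.Gerbe.Props
import Groth.Agent.Lib.SpQuot.CompareMap

/-!
# Algebraic gerbes and fppf inertia
-/

set_option backward.isDefEq.respectTransparency false
set_option backward.isDefEq.respectTransparency.types false

universe u

open CategoryTheory CategoryTheory.Functor CategoryTheory.Limits AlgebraicGeometry Opposite

namespace GrothLib.AlgSt.Rigid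

open _root_.AlgSt GrothLib.FibCat

variable {S : Scheme.{u}} {𝒳 : _root_.AlgSt.Cat S} {X : AlgSp.Sp S} (π : 𝒳 ⥤ᵇ ofSp X)

theorem map_aut_iff {a : 𝒳.obj} (α : a ⟶ a) : π.map α = 𝟙 (π.obj a) ↔ 𝒳.p.map α = 𝟙 (𝒳.p.obj a) := by
  have h : (π.map α).hom = eqToHom (π.w_obj a) ≫ 𝒳.p.map α ≫ eqToHom (π.w_obj a).symm :=
    Functor.congr_hom π.w α
  constructor
  · intro e
    rw [e] at h
    have h' : eqToHom (π.w_obj a) ≫ 𝒳.p.map α ≫ eqToHom (π.w_obj a).symm = 𝟙 (π.obj a).base := h.symm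
    rw [← cancel_epi (eqToHom (π.w_obj a)), Category.comp_id, ← cancel_mono (eqToHom (π.w_obj a).symm),
      Category.assoc, h']
    simp
  · intro e
    refine Stk.EltObj.hom_ext ?_
    rw [h, e, Category.id_comp, eqToHom_trans, eqToHom_refl]
    rfl

/-- The absolute inertia as the inertia relative to a sheaf. -/
def toRelInertia : _root_.FibCat.inertia (_root_.FibCat.toSelf 𝒳) ⥤ᵇ _root_.FibCat.inertia π where
  toFunctor :=
    { obj := fun o => ⟨o.pt, o.aut, (map_aut_iff π o.aut.hom).2 o.map_aut⟩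
      map := fun φ => ⟨φ.hom, φ.comm⟩ }
  w := rfl

/-- The inertia relative to a sheaf as the absolute inertia. -/
def ofRelInertia : _root_.FibCat.inertia π ⥤ᵇ _root_.FibCat.inertia (_root_.FibCat.toSelf 𝒳) where
  toFunctor :=
    { obj := fun o => ⟨o.pt, o.aut, (map_aut_iff π o.aut.hom).1 o.map_aut⟩
      map := fun φ => ⟨φ.hom, φ.comm⟩ }
  w := rfl

theorem isEquivOver_toRelInertia : _root_.FibCat.IsEquivOver (toRelInertia π) :=
  ⟨ofRelInertia π, ⟨natIsoOfComponents (fun a => Iso.refl a) (fun a => IsHomLift.id rfl)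
      fun f => (Category.comp_id _).trans (Category.id_comp _).symm⟩,
    ⟨natIsoOfComponents (fun a => Iso.refl a) (fun a => IsHomLift.id rfl)
      fun f => (Category.comp_id _).trans (Category.id_comp _).symm⟩⟩

theorem isAlgGerbe_iff (h𝒳 : IsAlgStack Scheme.fppfPrecoverage 𝒳) :
    Gerb.IsAlgGerbe Scheme.fppfPrecoverage 𝒳 ↔
      LocQ (AlgSp.LocP @Flat) (_root_.FibCat.inertiaToBase (_root_.FibCat.toSelf 𝒳)) ∧
        LocQ (AlgSp.LocP @LocallyOfFinitePresentation) (_root_.FibCat.inertiaToBase (_root_.FibCat.toSelf 𝒳)) := by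
  constructor
  · rintro ⟨X, π, hπ⟩
    have hX := (isDM_of_repByAlgSp (𝒳 := ofSp X.obj) ⟨X, BasedFunctor.id _, IsEquivOver.refl _⟩).1
    have h := Section.diag_props h𝒳 hX π hπ
    have key : ∀ {P : MorphismProperty (AlgSp.Sp S)}, RepByAlgSpWith P (_root_.FibCat.diag π) →
        RepByAlgSpWith P (_root_.FibCat.inertiaToBase (_root_.FibCat.toSelf 𝒳)) := fun {P} hd =>
      (repByAlgSpWith_iff_of_square (f' := _root_.FibCat.inertiaToBase (_root_.FibCat.toSelf 𝒳))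
        (f := _root_.FibCat.inertiaToBase π) (toRelInertia π) (BasedFunctor.id 𝒳) (isEquivOver_toRelInertia π)
        (IsEquivOver.refl 𝒳) (Iso.refl _)).1 ((repByAlgSpWith_inertiaToBase_iff π).2 (repByAlgSpWith_fpFst _ hd))
    exact ⟨locQ_of_repByAlgSpWith GrothLib.AlgSp.isSmoothLocalST_flat h𝒳 (key h.1),
      locQ_of_repByAlgSpWith GrothLib.AlgSp.isSmoothLocalST_lfp h𝒳 (key h.2.1)⟩
  · rintro ⟨h₁, h₂⟩
    have := GrothLib.AlgSp.descendsAlong_flat_fpqc.{u}
    have g := h𝒳.isStack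
    have hfp : IsAlgStack Scheme.fppfPrecoverage
        (_root_.FibCat.fp (_root_.FibCat.toSelf 𝒳) (_root_.FibCat.toSelf 𝒳)) :=
      isAlgStack_fp (isDM_of_repByAlgSp repByAlgSp_selfOver).1.isStack (isDM_of_repByAlgSp repByAlgSp_selfOver).1.diag
        h𝒳 h𝒳 _ _
    have hI : IsAlgStack Scheme.fppfPrecoverage (_root_.FibCat.inertia (_root_.FibCat.toSelf 𝒳)) :=
      (isAlgStack_iff_of_isEquivOver _ (isEquivOver_inertiaToFp _)).2
        (isAlgStack_fp hfp.isStack hfp.diag h𝒳 h𝒳 _ _)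
    have hrep : RepByAlgSp1 (_root_.FibCat.inertiaToBase (_root_.FibCat.toSelf 𝒳)) :=
      repByAlgSpWith_top_iff.1 ((repByAlgSpWith_inertiaToBase_iff _).2 (repByAlgSpWith_fpFst _
        (repByAlgSpWith_top_iff.2 h𝒳.diag)))
    exact isAlgGerbe_of_inertia h𝒳
      (repByAlgSpWith_of_locQ GrothLib.AlgSp.isSmoothLocalST_flat (stableSp_locP GrothLib.AlgSp.EtLocal.flat)
        (GrothLib.SpQuot.isLocalOnBase_fppf_locP GrothLib.AlgSp.EtLocal.flat) hI h𝒳 hrep h₁)
      (repByAlgSpWith_of_locQ GrothLib.AlgSp.isSmoothLocalST_lfp (stableSp_locP GrothLib.AlgSp.EtLocal.lfp)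
        isLocalOnBase_fppf_locP_lfp hI h𝒳 hrep h₂)

end GrothLib.AlgSt.Rigid
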