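import Groth.Agent.Lib.AlgSt.Stacky
import Groth.Agent.Lib.AlgSt.FibreProduct
import Groth.Agent.Lib.AlgSt.DiagRep
import Groth.Agent.Lib.AlgSt.LocQ
import Groth.Agent.Lib.AlgSt.Gerbe.Rigid.DiagFibre

/-!
# Pairs of points of a test scheme as a space
-/

set_option backward.isDefEq.respectTransparency false
set_option backward.isDefEq.respectTransparency.types false

universe u

open CategoryTheory CategoryTheory.Functor CategoryTheory.Limits AlgebraicGeometry Opposite

namespace GrothLib.AlgSt.Rigid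

open _root_.AlgSt GrothLib.FibCat

variable {S : Scheme.{u}} {𝒜 𝒳 𝒴 : _root_.AlgSt.Cat S} {U : Over S}

/-- Functors into a product over the base are isomorphic as soon as their components are. -/
def isoToPair {g₁ : 𝒳 ⥤ᵇ _root_.FibCat.selfOver (Over S)} {g₂ : 𝒴 ⥤ᵇ _root_.FibCat.selfOver (Over S)}
    (A B : 𝒜 ⥤ᵇ _root_.FibCat.fp g₁ g₂)
    (α : BasedFunctor.comp A (_root_.FibCat.fpFst g₁ g₂) ≅ BasedFunctor.comp B (_root_.FibCat.fpFst g₁ g₂))
    (β : BasedFunctor.comp A (_root_.FibCat.fpSnd g₁ g₂) ≅ BasedFunctor.comp B (_root_.FibCat.fpSnd g₁ g₂)) :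
    A ≅ B :=
  natIsoOfComponents (fun a => Fp.isoMk (((BasedNatTrans.forgetful _ _).mapIso α).app a)
      (((BasedNatTrans.forgetful _ _).mapIso β).app a) (by
        have h₁ : 𝒳.p.IsHomLift (𝟙 (𝒜.p.obj a)) (α.hom.toNatTrans.app a) := BasedNatTrans.isHomLift α.hom rfl
        have h₂ : 𝒴.p.IsHomLift (𝟙 (𝒜.p.obj a)) (β.hom.toNatTrans.app a) := BasedNatTrans.isHomLift β.hom rfl
        have hA := isHomLift_id_of_eq (_root_.FibCat.selfOver (Over S)).p (R := 𝒳.p.obj (A.obj a).obj.fst)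
          (R' := 𝒜.p.obj a) (A.obj a).obj.iso.hom
          (Or.inl ((g₁.w_obj _).trans (A.w_obj a))) (h := Fp.iso_lift (A.obj a))
        have hB := isHomLift_id_of_eq (_root_.FibCat.selfOver (Over S)).p (R := 𝒳.p.obj (B.obj a).obj.fst)
          (R' := 𝒜.p.obj a) (B.obj a).obj.iso.hom
          (Or.inl ((g₁.w_obj _).trans (B.w_obj a))) (h := Fp.iso_lift (B.obj a))
        have k₁ : (_root_.FibCat.selfOver (Over S)).p.IsHomLift (𝟙 (𝒜.p.obj a)) (g₁.map (α.hom.toNatTrans.app a)) :=
          BasedFunctor.preserves_isHomLift g₁ _ _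
        have k₂ : (_root_.FibCat.selfOver (Over S)).p.IsHomLift (𝟙 (𝒜.p.obj a)) (g₂.map (β.hom.toNatTrans.app a)) :=
          BasedFunctor.preserves_isHomLift g₂ _ _
        exact selfOver_hom_ext (R := 𝒜.p.obj a)
          (g₁.map (α.hom.toNatTrans.app a) ≫ (B.obj a).obj.iso.hom)
          ((A.obj a).obj.iso.hom ≫ g₂.map (β.hom.toNatTrans.app a)) inferInstance inferInstance))
    (fun a => (Fp.isHomLift_iff _ _).2 (BasedNatTrans.isHomLift α.hom rfl))
    (fun f => Fp.hom_ext (α.hom.toNatTrans.naturality f) (β.hom.toNatTrans.naturality f))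

variable (x : _root_.FibCat.overCat U ⥤ᵇ 𝒳)

/-- The projection of the square of the sheaf of `U`. -/
noncomputable def prodProj₁ : ofSp ((AlgSp.yon S).obj U ⨯ (AlgSp.yon S).obj U) ⥤ᵇ _root_.FibCat.overCat U :=
  BasedFunctor.comp (ofSpMap prod.fst) (toOverCat U)

/-- The projection of the square of the sheaf of `U`. -/
noncomputable def prodProj₂ : ofSp ((AlgSp.yon S).obj U ⨯ (AlgSp.yon S).obj U) ⥤ᵇ _root_.FibCat.overCat U :=
  BasedFunctor.comp (ofSpMap prod.snd) (toOverCat U)

/-- The square of the sheaf of `U` as pairs over the base. -/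
noncomputable def prodToFp : ofSp ((AlgSp.yon S).obj U ⨯ (AlgSp.yon S).obj U) ⥤ᵇ
    _root_.FibCat.fp (BasedFunctor.comp x (_root_.FibCat.toSelf 𝒳)) (BasedFunctor.comp x (_root_.FibCat.toSelf 𝒳)) :=
  _root_.FibCat.fpLift prodProj₁ prodProj₂
    (toSelfIso (BasedFunctor.comp prodProj₁ x) ≪≫ (toSelfIso (BasedFunctor.comp prodProj₂ x)).symm)

theorem faithful_prodToFp : (prodToFp x).toFunctor.Faithful :=
  ⟨fun {a b φ ψ} h => Stk.EltObj.hom_ext (congrArg (fun t => CommaMorphism.left t.hom.fst) h :)⟩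

theorem full_prodToFp : (prodToFp x).toFunctor.Full := by
  refine ⟨fun {a b} ψ => ?_⟩
  let g : a.base ⟶ b.base := ψ.hom.fst.left
  have hg : ψ.hom.snd.left = g := by
    have h := IsHomLift.fac' (_root_.FibCat.overCat U).p
      ((_root_.FibCat.fp (BasedFunctor.comp x (_root_.FibCat.toSelf 𝒳))
        (BasedFunctor.comp x (_root_.FibCat.toSelf 𝒳))).p.map ψ) ψ.hom.snd
    exact h.trans ((Category.id_comp _).trans (Category.comp_id _))
  let P2 := (AlgSp.yon S).obj U ⨯ (AlgSp.yon S).obj U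
  have key : ∀ π : P2 ⟶ (AlgSp.yon S).obj U, ((π.hom.app (op b.base)) b.sec).down = ((π.hom.app (op b.base)) b.sec).down →
      g ≫ ((π.hom.app (op b.base)) b.sec).down = ((π.hom.app (op a.base)) a.sec).down →
      π.hom.app (op a.base) (P2.obj.map g.op b.sec) = π.hom.app (op a.base) a.sec := fun π _ h => by
    rw [NatTrans.naturality_apply π.hom g.op b.sec]
    exact ULift.ext _ _ h
  have e₁ := key prod.fst rfl (Over.w ψ.hom.fst)
  have e₂ := key prod.snd rfl (by rw [← hg]; exact Over.w ψ.hom.snd)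
  have hs : P2.obj.map g.op b.sec = a.sec := by
    apply (AlgSp.J S).uliftYonedaEquiv.{u + 1}.symm.injective
    apply Limits.prod.hom_ext <;> apply (AlgSp.J S).uliftYonedaEquiv.{u + 1}.injective <;>
      rw [GrothendieckTopology.uliftYonedaEquiv_comp, GrothendieckTopology.uliftYonedaEquiv_comp,
        Equiv.apply_symm_apply, Equiv.apply_symm_apply]
    · exact e₁
    · exact e₂
  exact ⟨⟨g, hs⟩, Fp.hom_ext (Over.OverMorphism.ext rfl) (Over.OverMorphism.ext hg.symm)⟩

variable {F : AlgSp.Sp S} {P : MorphismProperty (AlgSp.Sp S)}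

/-- The kernel pair of the pair of projections of the presentation has the property of the inertia. -/
theorem mem_kernelPair (hP : IsoInvariant P) (hdet : DetectedBySchemes P) (h𝒳 : _root_.FibCat.IsFibGrpd 𝒳.p)
    (hI : RepByAlgSpWith P (_root_.FibCat.inertiaToBase (_root_.FibCat.toSelf 𝒳))) (hF : AlgSp.IsAlgSpace F)
    (e : ofSp F ⥤ᵇ _root_.FibCat.fp x x) (he : _root_.FibCat.IsEquivOver e) (s t : F ⟶ (AlgSp.yon S).obj U)
    (hs : s = spMapOfOver (BasedFunctor.comp e (_root_.FibCat.fpFst x x)))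
    (ht : t = spMapOfOver (BasedFunctor.comp e (_root_.FibCat.fpSnd x x))) :
    P (pullback.fst (prod.lift s t) (prod.lift s t)) := by
  have h := repByAlgSpWith_kernelPair_fpToFp (isFibGrpd_overCat U) x x (_root_.FibCat.toSelf 𝒳) hI
  let w := GrothLib.FibCat.Cmp.fpToFp x x (_root_.FibCat.toSelf 𝒳)
  let j : BasedFunctor.comp e w ≅ BasedFunctor.comp (ofSpMap (prod.lift s t)) (prodToFp x) :=
    isoToPair _ _
      (iso_of_spMapOfOver_eq (Φ := BasedFunctor.comp e (_root_.FibCat.fpFst x x))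
        (Ψ := BasedFunctor.comp (ofSpMap (prod.lift s t)) prodProj₁) (by
          rw [spMapOfOver_ofSpMap_comp, prodProj₁, spMapOfOver_ofSpMap_comp, spMapOfOver_id_toOverCat,
            Category.comp_id, prod.lift_fst, hs])).some
      (iso_of_spMapOfOver_eq (Φ := BasedFunctor.comp e (_root_.FibCat.fpSnd x x))
        (Ψ := BasedFunctor.comp (ofSpMap (prod.lift s t)) prodProj₂) (by
          rw [spMapOfOver_ofSpMap_comp, prodProj₂, spMapOfOver_ofSpMap_comp, spMapOfOver_id_toOverCat,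
            Category.comp_id, prod.lift_snd, ht])).some
  let sq := IsPullback.of_hasPullback (prod.lift s t) (prod.lift s t)
  let E := BasedFunctor.comp (spToFp sq.w) (Fp.map e e (prodToFp x) j j)
  have hE : _root_.FibCat.IsEquivOver E :=
    have := full_prodToFp x
    have := faithful_prodToFp x
    IsEquivOver.comp (isEquivOver_spToFp sq) (Fp.isEquivOver_map _ _ _ _ _ he he)
  refine mem_of_repByAlgSpWith_ofSpMap hP hdet
    (GrothLib.AlgSp.isAlgSpace_pullback' (GrothLib.AlgSp.isAlgSpace_prod (AlgSp.IsAlgSpace.yon_obj U)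
      (AlgSp.IsAlgSpace.yon_obj U)) hF hF (prod.lift s t) (prod.lift s t)) hF _ ?_
  exact (repByAlgSpWith_iff_of_square (f' := ofSpMap (pullback.fst (prod.lift s t) (prod.lift s t)))
    (f := _root_.FibCat.fpFst w w) E e hE he (Iso.refl _)).1 h

end GrothLib.AlgSt.Rigid
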