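import Groth.Agent.Lib.AlgSt.Gerbe.Rigid.PairSpace
import Groth.Agent.Lib.AlgSt.Gerbe.Rigid.Desc
import Groth.Agent.Lib.AlgSt.LargestOpen.Chart
import Groth.Agent.Lib.AlgSt.Setoid
import Groth.Prelude.Def_StGerb

/-!
# The space of isomorphism classes of a stack with fppf inertia
-/

set_option backward.isDefEq.respectTransparency false
set_option backward.isDefEq.respectTransparency.types false

universe u

open CategoryTheory CategoryTheory.Functor CategoryTheory.Limits AlgebraicGeometry Opposite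

namespace GrothLib.AlgSt.Rigid

open _root_.AlgSt GrothLib.FibCat

variable {S : Scheme.{u}} {𝒳 : _root_.AlgSt.Cat S} {U : Over S} (x : _root_.FibCat.overCat U ⥤ᵇ 𝒳)
  {F : AlgSp.Space S}

/-- The objects over two maps to `U` are isomorphic iff the pair lifts to the presentation. -/
theorem exists_lift_iff (e : ofSp F.obj ⥤ᵇ _root_.FibCat.fp x x) (he : _root_.FibCat.IsEquivOver e)
    {T : Over S} (a b : T ⟶ U) :
    (∃ r : (AlgSp.yon S).obj T ⟶ F.obj,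
      r ≫ spMapOfOver (BasedFunctor.comp e (_root_.FibCat.fpFst x x)) = (AlgSp.yon S).map a ∧
      r ≫ spMapOfOver (BasedFunctor.comp e (_root_.FibCat.fpSnd x x)) = (AlgSp.yon S).map b) ↔
    Nonempty (BasedFunctor.comp (_root_.AlgSt.overMap a) x ≅ BasedFunctor.comp (_root_.AlgSt.overMap b) x) := by
  constructor
  · rintro ⟨r, h₁, h₂⟩
    let L := BasedFunctor.comp (ofOverCat T) (BasedFunctor.comp (ofSpMap r) e)
    have e₁ : sliceHom (BasedFunctor.comp L (_root_.FibCat.fpFst x x)) = a := (AlgSp.yon S).map_injective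
      ((LargestOpen.map_sliceHom_chart e (_root_.FibCat.fpFst x x) r).trans h₁)
    have e₂ : sliceHom (BasedFunctor.comp L (_root_.FibCat.fpSnd x x)) = b := (AlgSp.yon S).map_injective
      ((LargestOpen.map_sliceHom_chart e (_root_.FibCat.fpSnd x x) r).trans h₂)
    refine ⟨(whiskerRightIso (isoOverMap (BasedFunctor.comp L (_root_.FibCat.fpFst x x)) ≪≫
      eqToIso (congrArg GrothLib.FibCat.overMap e₁)) x).symm ≪≫ whiskerLeftIso L (_root_.FibCat.fpIso x x) ≪≫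
      whiskerRightIso (isoOverMap (BasedFunctor.comp L (_root_.FibCat.fpSnd x x)) ≪≫
      eqToIso (congrArg GrothLib.FibCat.overMap e₂)) x⟩
  · rintro ⟨i⟩
    obtain ⟨e', he', ⟨η⟩, ⟨ε⟩⟩ := IsEquivOver.symm he
    let L := BasedFunctor.comp (toOverCat T)
      (_root_.FibCat.fpLift (_root_.AlgSt.overMap a) (_root_.AlgSt.overMap b) i)
    let Φ := BasedFunctor.comp L e'
    let j : BasedFunctor.comp (ofSpMap (spHom Φ)) e ≅ L :=
      whiskerRightIso (isoOfSpHom Φ).symm e ≪≫ whiskerLeftIso L ε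
    refine ⟨spHom Φ, ?_, ?_⟩
    · refine (spMapOfOver_ofSpMap_comp (spHom Φ) _).symm.trans
        ((spMapOfOver_congr (whiskerRightIso j (_root_.FibCat.fpFst x x))).trans ?_)
      exact spMapOfOver_overMap a
    · refine (spMapOfOver_ofSpMap_comp (spHom Φ) _).symm.trans
        ((spMapOfOver_congr (whiskerRightIso j (_root_.FibCat.fpSnd x x))).trans ?_)
      exact spMapOfOver_overMap b

/-- The relation on `U` of having isomorphic objects, as an fppf equivalence relation of algebraic spaces. -/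
theorem exists_isoRel (h𝒳 : _root_.FibCat.IsFibGrpd 𝒳.p) (hsm : RepByAlgSpWith (AlgSp.LocP @Smooth) x)
    (h₁ : RepByAlgSpWith (AlgSp.LocP @Flat) (_root_.FibCat.inertiaToBase (_root_.FibCat.toSelf 𝒳)))
    (h₂ : RepByAlgSpWith (AlgSp.LocP @LocallyOfFinitePresentation)
      (_root_.FibCat.inertiaToBase (_root_.FibCat.toSelf 𝒳))) :
    ∃ (E : AlgSp.Sp S) (s t : E ⟶ (AlgSp.yon S).obj U), AlgSp.IsAlgSpace E ∧ AlgSp.IsEqvRelSp s t ∧
      AlgSp.LocP @Flat s ∧ AlgSp.LocP @LocallyOfFinitePresentation s ∧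
      (∀ ⦃T : Over S⦄ (a b : T ⟶ U),
        Nonempty (BasedFunctor.comp (_root_.AlgSt.overMap a) x ≅ BasedFunctor.comp (_root_.AlgSt.overMap b) x) →
        ∃ r : (AlgSp.yon S).obj T ⟶ E, r ≫ s = (AlgSp.yon S).map a ∧ r ≫ t = (AlgSp.yon S).map b) ∧
      ∀ ⦃T : Over S⦄ (r : (AlgSp.yon S).obj T ⟶ E) (a b : T ⟶ U), r ≫ s = (AlgSp.yon S).map a →
        r ≫ t = (AlgSp.yon S).map b → ∃ R ∈ AlgSp.J S T, ∀ ⦃V : Over S⦄ (g : V ⟶ T), R.arrows g →
          Nonempty (BasedFunctor.comp (_root_.AlgSt.overMap (g ≫ a)) x ≅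
            BasedFunctor.comp (_root_.AlgSt.overMap (g ≫ b)) x) := by
  obtain ⟨F, e, he, hsF⟩ := hsm U x
  let s₀ := spMapOfOver (BasedFunctor.comp e (_root_.FibCat.fpFst x x))
  let t₀ := spMapOfOver (BasedFunctor.comp e (_root_.FibCat.fpSnd x x))
  have hU := AlgSp.IsAlgSpace.yon_obj U
  have hUU := GrothLib.AlgSp.isAlgSpace_prod hU hU
  have hk₁ := mem_kernelPair x isoInvariant_locP (detectedBySchemes_locP fun _ _ t (h : Etale t) => (inferInstance : Flat t)) h𝒳 h₁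
    F.property e he s₀ t₀ rfl rfl
  have hk₂ := mem_kernelPair x isoInvariant_locP (detectedBySchemes_locP fun _ _ t (h : Etale t) => (inferInstance : LocallyOfFinitePresentation t)) h𝒳 h₂
    F.property e he s₀ t₀ rfl rfl
  obtain ⟨E, π, m, hE, hm, hπm, hπ, hs, hfl, hfp⟩ := exists_image F.property hUU (prod.lift s₀ t₀) ⟨hk₁, hk₂⟩
  have hs₀ : π ≫ m ≫ prod.fst = s₀ := by rw [← Category.assoc, hπm, prod.lift_fst]
  have ht₀ : π ≫ m ≫ prod.snd = t₀ := by rw [← Category.assoc, hπm, prod.lift_snd]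
  obtain ⟨hsfl, hsfp⟩ := flat_lfp_of_comp F.property hE hU hs hfl hfp (s := m ≫ prod.fst)
    (by rw [hs₀]; exact ⟨locP_flat_of_smooth hsF, locP_lfp_of_smooth hsF⟩)
  have hto : ∀ ⦃T : Over S⦄ (a b : T ⟶ U),
      Nonempty (BasedFunctor.comp (_root_.AlgSt.overMap a) x ≅ BasedFunctor.comp (_root_.AlgSt.overMap b) x) →
      ∃ r : (AlgSp.yon S).obj T ⟶ E, r ≫ m ≫ prod.fst = (AlgSp.yon S).map a ∧
        r ≫ m ≫ prod.snd = (AlgSp.yon S).map b := fun T a b h => by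
    obtain ⟨r, h₁, h₂⟩ := (exists_lift_iff x e he a b).2 h
    exact ⟨r ≫ π, by rw [Category.assoc, hs₀, h₁], by rw [Category.assoc, ht₀, h₂]⟩
  have hfrom : ∀ ⦃T : Over S⦄ (r : (AlgSp.yon S).obj T ⟶ E) (a b : T ⟶ U),
      r ≫ m ≫ prod.fst = (AlgSp.yon S).map a → r ≫ m ≫ prod.snd = (AlgSp.yon S).map b →
      ∃ R ∈ AlgSp.J S T, ∀ ⦃V : Over S⦄ (g : V ⟶ T), R.arrows g →
        Nonempty (BasedFunctor.comp (_root_.AlgSt.overMap (g ≫ a)) x ≅
          BasedFunctor.comp (_root_.AlgSt.overMap (g ≫ b)) x) := fun T r a b ha hb => by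
    obtain ⟨R, hR, hl⟩ := exists_locally_lift π r
    refine ⟨R, hR, fun V g hg => ?_⟩
    obtain ⟨l, hl⟩ := hl g hg
    exact (exists_lift_iff x e he _ _).1 ⟨l,
      show l ≫ s₀ = _ by rw [Functor.map_comp, ← ha, ← hs₀, reassoc_of% hl],
      show l ≫ t₀ = _ by rw [Functor.map_comp, ← hb, ← ht₀, reassoc_of% hl]⟩
  have glue : ∀ ⦃T : Over S⦄ (a b : T ⟶ U) ⦃R : Sieve T⦄, R ∈ AlgSp.J S T →
      (∀ ⦃V : Over S⦄ (g : V ⟶ T), R.arrows g → Nonempty (BasedFunctor.comp (_root_.AlgSt.overMap (g ≫ a)) x ≅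
          BasedFunctor.comp (_root_.AlgSt.overMap (g ≫ b)) x)) →
      ∃ r : (AlgSp.yon S).obj T ⟶ E, r ≫ m ≫ prod.fst = (AlgSp.yon S).map a ∧
        r ≫ m ≫ prod.snd = (AlgSp.yon S).map b := fun T a b R hR h => by
    obtain ⟨r, hr⟩ := exists_lift_of_locally m (prod.lift ((AlgSp.yon S).map a) ((AlgSp.yon S).map b)) hR
      fun V g hg => by
        obtain ⟨l, h₁, h₂⟩ := hto _ _ (h g hg)
        refine ⟨l, ?_⟩
        apply Limits.prod.hom_ext
        · rw [Category.assoc, Category.assoc, prod.lift_fst, h₁, Functor.map_comp]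
        · rw [Category.assoc, Category.assoc, prod.lift_snd, h₂, Functor.map_comp]
    exact ⟨r, by rw [← Category.assoc, hr, prod.lift_fst], by rw [← Category.assoc, hr, prod.lift_snd]⟩
  refine ⟨E, m ≫ prod.fst, m ≫ prod.snd, hE, ⟨fun T r r' ht hs' => ?_, fun T => ?_⟩, hsfl, hsfp, hto, hfrom⟩
  · rw [← cancel_mono m]
    apply Limits.prod.hom_ext
    · simpa using hs'
    · simpa using ht
  · refine ⟨fun a => ?_, fun {a b} h => ?_, fun {a b c} h h' => ?_⟩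
    · obtain ⟨a, rfl⟩ := (AlgSp.yon S).map_surjective a
      obtain ⟨r, h₁, h₂⟩ := hto a a ⟨Iso.refl _⟩
      exact ⟨r, h₂, h₁⟩
    · obtain ⟨r, hra, hrb⟩ := h
      obtain ⟨a, rfl⟩ := (AlgSp.yon S).map_surjective a
      obtain ⟨b, rfl⟩ := (AlgSp.yon S).map_surjective b
      obtain ⟨R, hR, hR'⟩ := hfrom r b a hrb hra
      obtain ⟨r', h₁, h₂⟩ := glue a b hR fun V g hg => ⟨(hR' g hg).some.symm⟩
      exact ⟨r', h₂, h₁⟩
    · obtain ⟨r, hra, hrb⟩ := h
      obtain ⟨r', hrb', hrc⟩ := h'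
      obtain ⟨a, rfl⟩ := (AlgSp.yon S).map_surjective a
      obtain ⟨b, rfl⟩ := (AlgSp.yon S).map_surjective b
      obtain ⟨c, rfl⟩ := (AlgSp.yon S).map_surjective c
      obtain ⟨R, hR, hR'⟩ := hfrom r b a hrb hra
      obtain ⟨R₂, hR₂, hR₂'⟩ := hfrom r' c b hrc hrb'
      obtain ⟨q, h₁, h₂⟩ := glue c a ((AlgSp.J S).intersection_covering hR hR₂) fun V g hg =>
        ⟨(hR₂' g hg.2).some ≪≫ (hR' g hg.1).some⟩
      exact ⟨q, h₂, h₁⟩

/-- A stack with fppf inertia is a gerbe over the space of isomorphism classes. -/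
theorem isAlgGerbe_of_inertia (h𝒳 : IsAlgStack Scheme.fppfPrecoverage 𝒳)
    (h₁ : RepByAlgSpWith (AlgSp.LocP @Flat) (_root_.FibCat.inertiaToBase (_root_.FibCat.toSelf 𝒳)))
    (h₂ : RepByAlgSpWith (AlgSp.LocP @LocallyOfFinitePresentation)
      (_root_.FibCat.inertiaToBase (_root_.FibCat.toSelf 𝒳))) :
    Gerb.IsAlgGerbe Scheme.fppfPrecoverage 𝒳 := by
  have g𝒳 := h𝒳.isStack.1
  obtain ⟨U, x, hsm, hsu⟩ := h𝒳.atlas
  obtain ⟨E, s, t, hE, heq, hfl, hfp, hto, hfrom⟩ := exists_isoRel x g𝒳 hsm h₁ h₂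
  let p := AlgSp.quotSpπ s t
  have hX := GrothLib.AlgSp.isAlgSpace_quotSp hE (AlgSp.IsAlgSpace.yon_obj U) heq ⟨hfl, hfp⟩
  have sq := GrothLib.AlgSp.isPullback_quotSpπ heq
  have : Sheaf.IsLocallySurjective p := by
    rw [Sheaf.isLocallySurjective_iff_epi]
    exact coequalizer.π_epi
  have hp : ∀ ⦃T : Over S⦄ (a b : T ⟶ U), Nonempty (BasedFunctor.comp (_root_.AlgSt.overMap a) x ≅
      BasedFunctor.comp (_root_.AlgSt.overMap b) x) → (AlgSp.yon S).map a ≫ p = (AlgSp.yon S).map b ≫ p :=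
    fun T a b h => by
      obtain ⟨r, ha, hb⟩ := hto a b h
      rw [← ha, ← hb, Category.assoc, Category.assoc, AlgSp.quotSp_condition]
  obtain ⟨π, hπ⟩ := exists_toSheaf x p hsm hsu hp g𝒳
  let Z : ∀ {T : Over S}, (_root_.FibCat.overCat T ⥤ᵇ 𝒳) → ((AlgSp.yon S).obj T ⟶ AlgSp.quotSp s t) :=
    fun y => spHom (BasedFunctor.comp (BasedFunctor.comp (toOverCat _) y) π)
  have hmor : ∀ {T : Over S} (y : _root_.FibCat.overCat T ⥤ᵇ 𝒳) (o : (ofSp (AlgSp.quotSp s t)).obj)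
      (f : T ⟶ o.base),
      (AlgSp.quotSp s t).obj.map f.op o.sec = (AlgSp.J S).uliftYonedaEquiv.{u + 1} (Z y) →
      ∃ g : π.obj (y.obj (Yon.idObj T)) ⟶ o, (ofSp (AlgSp.quotSp s t)).p.IsHomLift f g := by
    intro T y o f hf
    let Φ := BasedFunctor.comp (BasedFunctor.comp (toOverCat T) y) π
    let a₀ : (ofSp ((AlgSp.yon S).obj T)).obj := ⟨T, ⟨𝟙 T⟩⟩
    let i := ((BasedNatTrans.forgetful _ _).mapIso (isoOfSpHom Φ)).app a₀
    have hi : (ofSp (AlgSp.quotSp s t)).p.IsHomLift (𝟙 T) i.hom :=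
      BasedNatTrans.isHomLift (isoOfSpHom Φ).hom rfl
    let g : (ofSpMap (spHom Φ)).obj a₀ ⟶ o := ⟨f, hf⟩
    have hg : (ofSp (AlgSp.quotSp s t)).p.IsHomLift f g := IsHomLift.map (ofSp (AlgSp.quotSp s t)).p g
    exact ⟨i.hom ≫ g, IsHomLift.comp_lift_id_left' (ofSp (AlgSp.quotSp s t)).p T i.hom f g⟩
  refine ⟨⟨_, hX⟩, π, fun o => ?_, fun η η' b hb => ?_⟩
  · obtain ⟨R, hR, hl⟩ := exists_locally_lift p ((AlgSp.J S).uliftYonedaEquiv.{u + 1}.symm o.sec)
    refine ⟨R, hR, fun V f hf => ?_⟩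
    obtain ⟨l, hl⟩ := hl f hf
    obtain ⟨l, rfl⟩ := (AlgSp.yon S).map_surjective l
    let y := BasedFunctor.comp (_root_.AlgSt.overMap l) x
    refine ⟨y.obj (Yon.idObj V), hmor y o f ?_⟩
    have hZ : Z y = (AlgSp.yon S).map l ≫ p :=
      IsValue.unique x p hsm hsu (hπ y) (isValue_overMap x p hsm hsu hp l)
    rw [hZ, hl, ← GrothendieckTopology.uliftYonedaEquiv_naturality, Equiv.apply_symm_apply]
  · obtain ⟨y, ey, hey⟩ := Yon.exists_functor g𝒳 (U := 𝒳.p.obj η) η rfl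
    have hη' : 𝒳.p.obj η' = 𝒳.p.obj η := (π.w_obj η').symm.trans
      (IsHomLift.codomain_eq (ofSp (AlgSp.quotSp s t)).p (𝟙 _) b)
    obtain ⟨y', ey', hey'⟩ := Yon.exists_functor g𝒳 η' hη'
    let T := 𝒳.p.obj η
    have hZ : Z y = Z y' := by
      let Φ := BasedFunctor.comp (BasedFunctor.comp (toOverCat T) y) π
      let Ψ := BasedFunctor.comp (BasedFunctor.comp (toOverCat T) y') π
      let a₀ : (ofSp ((AlgSp.yon S).obj T)).obj := ⟨T, ⟨𝟙 T⟩⟩
      let i := ((BasedNatTrans.forgetful _ _).mapIso (isoOfSpHom Φ)).app a₀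
      let j := ((BasedNatTrans.forgetful _ _).mapIso (isoOfSpHom Ψ)).app a₀
      have hi : (ofSp (AlgSp.quotSp s t)).p.IsHomLift (𝟙 T) i.hom :=
        BasedNatTrans.isHomLift (isoOfSpHom Φ).hom rfl
      have hj : (ofSp (AlgSp.quotSp s t)).p.IsHomLift (𝟙 T) j.hom :=
        BasedNatTrans.isHomLift (isoOfSpHom Ψ).hom rfl
      have hi' := isHomLift_id_inv (ofSp (AlgSp.quotSp s t)).p (R := T) i
      let g : (ofSpMap (spHom Φ)).obj a₀ ⟶ (ofSpMap (spHom Ψ)).obj a₀ :=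
        i.inv ≫ π.map ey.hom ≫ b ≫ π.map ey'.inv ≫ j.hom
      have he' := isHomLift_id_inv 𝒳.p (R := T) ey'
      have hg : (ofSp (AlgSp.quotSp s t)).p.IsHomLift (𝟙 T) g := by
        have := hb
        have := BasedFunctor.preserves_isHomLift π (𝟙 T) ey.hom
        have := BasedFunctor.preserves_isHomLift π (𝟙 T) ey'.inv
        infer_instance
      have hgh : g.hom = 𝟙 T := by
        have := IsHomLift.fac' (ofSp (AlgSp.quotSp s t)).p (𝟙 T) g
        exact this.trans ((Category.id_comp _).trans (Category.comp_id _))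
      apply (AlgSp.J S).uliftYonedaEquiv.{u + 1}.injective
      have h := g.map_sec
      rw [hgh] at h
      exact h.symm.trans (Functor.map_id_apply _ _ _)
    let R' : Sieve T :=
      { arrows := fun V f => Nonempty (BasedFunctor.comp (_root_.AlgSt.overMap f) y ≅
          BasedFunctor.comp (_root_.AlgSt.overMap f) y')
        downward_closed := fun {V W f} ⟨i⟩ g => ⟨(whiskerRightIso (overMapCompIso g f) y).symm ≪≫
          whiskerLeftIso (_root_.AlgSt.overMap g) i ≪≫ whiskerRightIso (overMapCompIso g f) y'⟩ }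
    have hR' : R' ∈ AlgSp.J S T := by
      refine (AlgSp.J S).transitive ((AlgSp.J S).intersection_covering (liftSieve_mem x hsm hsu y)
        (liftSieve_mem x hsm hsu y')) R' fun V c ⟨⟨l, hl⟩, ⟨l', hl'⟩⟩ => ?_
      obtain ⟨r, hr₁, hr₂⟩ : ∃ r : (AlgSp.yon S).obj V ⟶ E, r ≫ t = (AlgSp.yon S).map l ∧
          r ≫ s = (AlgSp.yon S).map l' :=
        have e : (AlgSp.yon S).map l ≫ p = (AlgSp.yon S).map l' ≫ p := by
          rw [← hπ y c l hl, ← hπ y' c l' hl']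
          exact congrArg _ hZ
        ⟨sq.lift _ _ e, sq.lift_fst _ _ e, sq.lift_snd _ _ e⟩
      obtain ⟨R, hR, hR2⟩ := hfrom r l' l hr₂ hr₁
      refine (AlgSp.J S).superset_covering (fun W g hg => ?_) hR
      obtain ⟨i⟩ := iso_comp_left x g c l hl
      obtain ⟨i'⟩ := iso_comp_left x g c l' hl'
      exact ⟨i ≪≫ (hR2 g hg).some.symm ≪≫ i'.symm⟩
    refine ⟨R', hR', fun V f ⟨i⟩ => ?_⟩
    let o := (_root_.AlgSt.overMap f).obj (Yon.idObj V)
    have hio : 𝒳.p.IsHomLift (𝟙 V) (i.hom.toNatTrans.app (Yon.idObj V)) := BasedNatTrans.isHomLift i.hom rfl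
    have ha : (_root_.FibCat.overCat T).p.IsHomLift f (Yon.toId o) :=
      IsHomLift.of_fac' _ _ _ rfl rfl (by
        change 𝟙 _ ≫ f = 𝟙 _ ≫ f ≫ 𝟙 _
        simp)
    have ha1 : 𝒳.p.IsHomLift f (y.map (Yon.toId o) ≫ ey.hom) :=
      IsHomLift.comp_lift_id_right' 𝒳.p f (y.map (Yon.toId o)) T ey.hom
    have ha2 : 𝒳.p.IsHomLift f (y'.map (Yon.toId o) ≫ ey'.hom) :=
      IsHomLift.comp_lift_id_right' 𝒳.p f (y'.map (Yon.toId o)) T ey'.hom
    have ha3 : 𝒳.p.IsHomLift f (i.hom.toNatTrans.app (Yon.idObj V) ≫ y'.map (Yon.toId o) ≫ ey'.hom) :=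
      IsHomLift.comp_lift_id_left' 𝒳.p V (i.hom.toNatTrans.app (Yon.idObj V)) f _
    refine ⟨y.obj o, y.map (Yon.toId o) ≫ ey.hom, i.hom.toNatTrans.app (Yon.idObj V) ≫ y'.map (Yon.toId o) ≫ ey'.hom,
      ha1, ha3, ?_⟩
    have := hb
    have : (ofSp (AlgSp.quotSp s t)).p.IsHomLift f (π.map (y.map (Yon.toId o) ≫ ey.hom)) :=
      BasedFunctor.preserves_isHomLift π f _
    have h₁ : (ofSp (AlgSp.quotSp s t)).p.IsHomLift f (π.map (y.map (Yon.toId o) ≫ ey.hom) ≫ b) :=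
      IsHomLift.comp_lift_id_right' _ f (π.map (y.map (Yon.toId o) ≫ ey.hom)) T b
    have h₂ : (ofSp (AlgSp.quotSp s t)).p.IsHomLift f
        (π.map (i.hom.toNatTrans.app (Yon.idObj V) ≫ y'.map (Yon.toId o) ≫ ey'.hom)) :=
      BasedFunctor.preserves_isHomLift π f _
    refine Stk.EltObj.hom_ext ?_
    have e₁ := IsHomLift.fac' (ofSp (AlgSp.quotSp s t)).p f (π.map (y.map (Yon.toId o) ≫ ey.hom) ≫ b)
    have e₂ := IsHomLift.fac' (ofSp (AlgSp.quotSp s t)).p f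
      (π.map (i.hom.toNatTrans.app (Yon.idObj V) ≫ y'.map (Yon.toId o) ≫ ey'.hom))
    exact e₁.trans e₂.symm

end GrothLib.AlgSt.Rigid
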