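import Mathlib.Topology.Constructions
import Mathlib.SetTheory.Cardinal.Order

/-!
# Well-ordered stratifications of a topological space
-/

universe v w

open Set

namespace GrothLib.AlgSt.Rigid

/-- Indices: sets of points, without their inclusion order. -/
structure StrataIdx (P : Type v) : Type v where
  /-- the underlying set -/
  set : Set P

/-- If every nonempty closed set has a nonempty relatively open piece, the space has a well-ordered
stratification by such pieces. -/
theorem exists_wellOrdered_strata {P : Type v} [TopologicalSpace P] {ι : Type w} (R : ι → Set P)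
    (Good : ι → Set P → Prop)
    (step : ∀ T : Set P, IsClosed T → T.Nonempty → ∃ i, (R i).Nonempty ∧ R i ⊆ T ∧
      IsOpen ((Subtype.val : T → P) ⁻¹' R i) ∧ Good i T) :
    ∃ (I : Type v) (_ : LinearOrder I) (_ : WellFoundedLT I) (Q : I → ι) (T : I → Set P),
      (∀ i, T i = {p | ∀ i', i' < i → p ∉ R (Q i')}) ∧ (∀ p, ∃ i, p ∈ R (Q i)) ∧ (∀ i, IsClosed (T i)) ∧
      ∀ i, R (Q i) ⊆ T i ∧ IsOpen ((Subtype.val : T i → P) ⁻¹' R (Q i)) ∧ Good (Q i) (T i) := by
  classical
  choose F hFne hFsub hFop hFgood using step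
  let hlin : LinearOrder (StrataIdx P) := IsWellOrder.linearOrder WellOrderingRel
  have hwf : WellFoundedLT (StrataIdx P) := ⟨(WellOrderingRel.isWellOrder (α := StrataIdx P)).wf⟩
  let G : Set P → Set P := fun T => if h : IsClosed T ∧ T.Nonempty then R (F T h.1 h.2) else ∅
  let strat : StrataIdx P → Set P := hwf.wf.fix fun j rec => G {p | ∀ (j' : StrataIdx P) (h : j' < j), p ∉ rec j' h}
  let T : StrataIdx P → Set P := fun j => {p | ∀ j', j' < j → p ∉ strat j'}
  have hstrat : ∀ j, strat j = G (T j) := fun j => hwf.wf.fix_eq _ j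
  have hclosed : ∀ j, IsClosed (T j) := fun j => hwf.wf.induction (C := fun j => IsClosed (T j)) j fun j ih => by
    have e : T j = ⋂ (j' : StrataIdx P) (_ : j' < j), T j' \ strat j' := by
      ext p
      simp only [mem_iInter, mem_sdiff]
      exact ⟨fun h j' hj' => ⟨fun j'' hj'' => h j'' (hj''.trans hj'), h j' hj'⟩, fun h j' hj' => (h j' hj').2⟩
    rw [e]
    refine isClosed_iInter fun j' => isClosed_iInter fun hj' => ?_
    by_cases h : IsClosed (T j') ∧ (T j').Nonempty
    · obtain ⟨W, hW, hWe⟩ := isOpen_induced_iff.1 (hFop (T j') h.1 h.2)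
      have hs : T j' \ strat j' = T j' \ W := by
        ext p
        rw [hstrat, show G (T j') = R (F (T j') h.1 h.2) from dif_pos h]
        exact ⟨fun hp => ⟨hp.1, fun hw => hp.2 ((Set.ext_iff.1 hWe ⟨p, hp.1⟩).1 hw)⟩,
          fun hp => ⟨hp.1, fun hr => hp.2 ((Set.ext_iff.1 hWe ⟨p, hp.1⟩).2 hr)⟩⟩
      rw [hs]
      exact h.1.sdiff hW
    · rw [hstrat, show G (T j') = ∅ from dif_neg h, sdiff_empty]
      exact ih j' hj'
  let I := {j : StrataIdx P // (T j).Nonempty}
  let Q : I → ι := fun i => F (T i.1) (hclosed i.1) i.2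
  have hQ : ∀ i : I, R (Q i) = strat i.1 := fun i => by
    rw [hstrat, show G (T i.1) = R (F (T i.1) (hclosed i.1) i.2) from dif_pos ⟨hclosed i.1, i.2⟩]
  refine ⟨I, inferInstance, inferInstance, Q, fun i => T i.1, fun i => ?_, fun p => ?_, fun i => hclosed i.1,
    fun i => ⟨hFsub _ _ _, hFop _ _ _, hFgood _ _ _⟩⟩
  · ext p
    refine ⟨fun h i' hi' => hQ i' ▸ h i'.1 hi', fun h j' hj' => ?_⟩
    have hne : (T j').Nonempty := i.2.imp fun q hq j'' hj'' => hq j'' (hj''.trans hj')
    exact hQ ⟨j', hne⟩ ▸ h ⟨j', hne⟩ hj'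
  · by_contra hp
    have hall : ∀ j, p ∈ T j := fun j => hwf.wf.induction (C := fun j => p ∈ T j) j fun j ih j' hj' hs =>
      hp ⟨⟨j', p, ih j' hj'⟩, by rw [hQ]; exact hs⟩
    have hne : ∀ j, ∃ q, q ∈ strat j := fun j => by
      obtain ⟨q, hq⟩ := hFne (T j) (hclosed j) ⟨p, hall j⟩
      exact ⟨q, by rw [← hQ ⟨j, p, hall j⟩]; exact hq⟩
    choose f hf using hne
    refine Function.cantor_injective (fun s => f ⟨s⟩) fun a' b' (hab : f ⟨a'⟩ = f ⟨b'⟩) => ?_
    obtain ⟨a, rfl⟩ : ∃ a : StrataIdx P, a.set = a' := ⟨⟨a'⟩, rfl⟩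
    obtain ⟨b, rfl⟩ : ∃ b : StrataIdx P, b.set = b' := ⟨⟨b'⟩, rfl⟩
    rcases lt_trichotomy a b with h | h | h
    · exact absurd (hab ▸ hf a) ((hFsub (T b) (hclosed b) ⟨p, hall b⟩ (by
        rw [show R (F (T b) _ _) = strat b from hQ ⟨b, p, hall b⟩]; exact hf b)) a h)
    · exact congrArg StrataIdx.set h
    · exact absurd (hab ▸ hf b) ((hFsub (T a) (hclosed a) ⟨p, hall a⟩ (by
        rw [show R (F (T a) _ _) = strat a from hQ ⟨a, p, hall a⟩]; exact hf a)) b h)

end GrothLib.AlgSt.Rigid
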