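import Groth.Agent.Lib.AlgSt.Gerbe.Rigid.Closure
import Groth.Agent.Lib.AlgSt.Gerbe.QC
import Groth.Agent.Lib.AlgSt.OpenSubQC
import Groth.Agent.Lib.Stk.Gerbe
import Groth.Agent.S12878

/-!
# A gerbe stratum inside a closed set of points
-/

set_option backward.isDefEq.respectTransparency false
set_option backward.isDefEq.respectTransparency.types false

universe u

open CategoryTheory CategoryTheory.Limits AlgebraicGeometry Opposite

namespace GrothLib.AlgSt.Rigid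

open _root_.AlgSt GrothLib.FibCat

variable {S : Scheme.{u}} {𝒳 : _root_.AlgSt.Cat S}

theorem smoothLocally_isReduced_openSub (h𝒳 : IsAlgStack Scheme.fppfPrecoverage 𝒳)
    (hred : SmoothLocally (fun T => IsReduced T) 𝒳) {Q : 𝒳.obj → Prop}
    (hQ : IsOpenSubstack 𝒳 Q Scheme.fppfPrecoverage) : SmoothLocally (fun T => IsReduced T) (fullSub 𝒳 Q) :=
  fun U x hx => by
    have hQ' := GrothLib.AlgSp.EtLocal.smooth
    have := hQ'.baseChange
    have : MorphismProperty.IsStableUnderComposition @Smooth := ⟨fun f g => hQ'.comp_mem f g⟩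
    exact hred U (BasedFunctor.comp x (subIncl 𝒳 Q))
      (repByAlgSpWith_locP_comp (fun _ _ t ht => hQ'.of_etale t ht) hQ'.descend (isFibGrpd_overCat U)
        hQ.2.1.isStack.1 x (subIncl 𝒳 Q) hx
        (repByAlgSpWith_mono (fun _ _ _ _ hG h => hQ'.locP_of_repWith hG
          (GrothLib.AlgSp.repWith_mono h fun _ _ t ht => by
            have : IsOpenImmersion t := ht
            exact (inferInstance : Smooth t))) hQ.2.2))

theorem isAlgGerbe_openSub (h𝒳 : IsAlgStack Scheme.fppfPrecoverage 𝒳)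
    (hg : Gerb.IsAlgGerbe Scheme.fppfPrecoverage 𝒳) {Q : 𝒳.obj → Prop}
    (hQ : IsOpenSubstack 𝒳 Q Scheme.fppfPrecoverage) : Gerb.IsAlgGerbe Scheme.fppfPrecoverage (fullSub 𝒳 Q) := by
  obtain ⟨h₁, h₂⟩ := (isAlgGerbe_iff h𝒳).1 hg
  have hlft : RepByAlgSpWith (AlgSp.LocP @LocallyOfFiniteType)
      (_root_.FibCat.inertiaToBase (_root_.FibCat.toSelf 𝒳)) :=
    (repByAlgSpWith_inertiaToBase_iff _).2 (repByAlgSpWith_fpFst _ (repByAlgSpWith_lft_diag_toSelf h𝒳))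
  have hfp : IsAlgStack Scheme.fppfPrecoverage
      (_root_.FibCat.fp (_root_.FibCat.toSelf 𝒳) (_root_.FibCat.toSelf 𝒳)) :=
    isAlgStack_fp (isDM_of_repByAlgSp repByAlgSp_selfOver).1.isStack (isDM_of_repByAlgSp repByAlgSp_selfOver).1.diag
      h𝒳 h𝒳 _ _
  have hI : IsAlgStack Scheme.fppfPrecoverage (_root_.FibCat.inertia (_root_.FibCat.toSelf 𝒳)) :=
    (isAlgStack_iff_of_isEquivOver _ (isEquivOver_inertiaToFp _)).2
      (isAlgStack_fp hfp.isStack hfp.diag h𝒳 h𝒳 _ _)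
  have := GrothLib.AlgSp.descendsAlong_flat_fpqc.{u}
  exact isAlgGerbe_of_inertia hQ.2.1
    (repByAlgSpWith_inertiaSub Q (repByAlgSpWith_of_locQ GrothLib.AlgSp.isSmoothLocalST_flat
      (stableSp_locP GrothLib.AlgSp.EtLocal.flat) (GrothLib.SpQuot.isLocalOnBase_fppf_locP GrothLib.AlgSp.EtLocal.flat)
      hI h𝒳 (repByAlgSp1_of_repByAlgSpWith hlft) h₁))
    (repByAlgSpWith_inertiaSub Q (repByAlgSpWith_of_locQ GrothLib.AlgSp.isSmoothLocalST_lfp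
      (stableSp_locP GrothLib.AlgSp.EtLocal.lfp) isLocalOnBase_fppf_locP_lfp
      hI h𝒳 (repByAlgSp1_of_repByAlgSpWith hlft) h₂))

/-- An immersed reduced gerbe gives a locally closed substack. -/
theorem exists_sub_of_isImm (h𝒳 : IsAlgStack Scheme.fppfPrecoverage 𝒳) {𝒜 : _root_.AlgSt.Cat S}
    (h𝒜 : IsAlgStack Scheme.fppfPrecoverage 𝒜) (i : 𝒜 ⥤ᵇ 𝒳) (hi : IsImm i)
    (hred : SmoothLocally (fun T => IsReduced T) 𝒜) (hg : Gerb.IsAlgGerbe Scheme.fppfPrecoverage 𝒜) :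
    ∃ Q : 𝒳.obj → Prop, IsLocClosedSubstack 𝒳 Q Scheme.fppfPrecoverage ∧
      SmoothLocally (fun T => IsReduced T) (fullSub 𝒳 Q) ∧
      Gerb.IsAlgGerbe Scheme.fppfPrecoverage (fullSub 𝒳 Q) ∧
      Set.range (Points.map (subIncl 𝒳 Q)) = Set.range (Points.map i) ∧
      (IsQuasiCompact 𝒜 → IsQuasiCompact (fullSub 𝒳 Q)) := by
  obtain ⟨Q, ⟨hQ, ⟨e, he, ⟨α⟩⟩, -, -⟩, -⟩ := Groth.Agent.S12878.result h𝒜 h𝒳 i hi
  refine ⟨Q, hQ, fun U x hx => ?_, ?_, ?_, isQuasiCompact_of_isEquivOver e he⟩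
  · obtain ⟨e', he', -, -⟩ := IsEquivOver.symm he
    exact hred U (BasedFunctor.comp x e') (repByAlgSpWith_comp_equiv e' he' hx)
  · obtain ⟨X, π, hπ⟩ := hg
    obtain ⟨e', -, ⟨η⟩, -⟩ := IsEquivOver.symm he
    exact ⟨X, BasedFunctor.comp e' π, GrothLib.Stk.Gerbe.isGerbeOver_of_comp_isEquivOver e he _
      (GrothLib.Stk.Gerbe.isGerbeOver_of_iso (whiskerRightIso η π).symm hπ)⟩
  · rw [← funext (fun p => (points_map_comp e (subIncl 𝒳 Q) p).symm.trans (points_map_congr α p)),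
      Set.range_comp' (Points.map (subIncl 𝒳 Q)) (Points.map e),
      Set.range_eq_univ.2 (points_map_bijective_of_isEquivOver h𝒜.isStack.1 e he).2, Set.image_univ]

theorem isImm_of_isClosedImm {𝒜 : _root_.AlgSt.Cat S} {i : 𝒜 ⥤ᵇ 𝒳} (h : IsClosedImm i) : IsImm i :=
  repByAlgSpWith_mono (fun _ _ _ _ _ h => GrothLib.AlgSp.repWith_mono h fun _ _ t ht => by
    have : IsClosedImmersion t := ht
    exact (inferInstance : IsImmersion t)) h

theorem isImm_of_isOpenImm {𝒜 : _root_.AlgSt.Cat S} {i : 𝒜 ⥤ᵇ 𝒳} (h : IsOpenImm i) : IsImm i :=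
  repByAlgSpWith_mono (fun _ _ _ _ _ h => GrothLib.AlgSp.repWith_mono h fun _ _ t ht => by
    have : IsOpenImmersion t := ht
    exact (inferInstance : IsImmersion t)) h

theorem isImm_comp' {𝒜 ℬ : _root_.AlgSt.Cat S} (h𝒜 : _root_.FibCat.IsFibGrpd 𝒜.p)
    (hℬ : _root_.FibCat.IsFibGrpd ℬ.p) {i : 𝒜 ⥤ᵇ ℬ} {j : ℬ ⥤ᵇ 𝒳} (hi : IsImm i) (hj : IsImm j) :
    IsImm (BasedFunctor.comp i j) :=
  repByAlgSpWith_repWith_comp @IsImmersion h𝒜 hℬ i j hi hj

/-- The dense open gerbe in the reduced closed substack on `T`. -/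
theorem exists_stratum_data (h𝒳 : IsAlgStack Scheme.fppfPrecoverage 𝒳)
    (hI : _root_.AlgSt.IsQuasiCompactMor Scheme.fppfPrecoverage
      (_root_.FibCat.inertiaToBase (_root_.FibCat.toSelf 𝒳)))
    (T : Set (Points 𝒳)) (hT : IsClosed T) (hne : T.Nonempty) :
    ∃ (QT : 𝒳.obj → Prop) (Q' : (fullSub 𝒳 QT).obj → Prop),
      IsClosedSubstack 𝒳 QT Scheme.fppfPrecoverage ∧ Set.range (Points.map (subIncl 𝒳 QT)) = T ∧
      SmoothLocally (fun X => IsReduced X) (fullSub 𝒳 QT) ∧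
      IsOpenSubstack (fullSub 𝒳 QT) Q' Scheme.fppfPrecoverage ∧
      Dense (Set.range (Points.map (subIncl (fullSub 𝒳 QT) Q'))) ∧
      Gerb.IsAlgGerbe Scheme.fppfPrecoverage (fullSub (fullSub 𝒳 QT) Q') ∧
      Nonempty (Points (fullSub 𝒳 QT)) := by
  obtain ⟨QT, hQ, hr, hred⟩ := exists_reduced_closedSubstack h𝒳 T hT
  obtain ⟨Q', hQ', hd, hg⟩ := exists_dense_gerbe hQ.2.1 hred (isQuasiCompactMor_inertiaSub QT hI)
  obtain ⟨p, hp⟩ := hne
  obtain ⟨q, -⟩ := hr.symm.subset hp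
  exact ⟨QT, Q', hQ, hr, hred, hQ', hd, hg, ⟨q⟩⟩

theorem isOpen_trace (h𝒳 : IsAlgStack Scheme.fppfPrecoverage 𝒳) {Q : 𝒳.obj → Prop}
    (hQ : IsClosedSubstack 𝒳 Q Scheme.fppfPrecoverage) {T : Set (Points 𝒳)}
    (hr : Set.range (Points.map (subIncl 𝒳 Q)) = T) {W : Set (Points (fullSub 𝒳 Q))} (hW : IsOpen W) :
    IsOpen ((Subtype.val : T → Points 𝒳) ⁻¹' (Points.map (subIncl 𝒳 Q) '' W)) := by
  obtain ⟨W₀, hW₀, e⟩ := exists_isOpen_image_eq h𝒳 hQ hW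
  have : (Subtype.val : T → Points 𝒳) ⁻¹' (Points.map (subIncl 𝒳 Q) '' W) = Subtype.val ⁻¹' W₀ := by
    rw [e, hr]
    ext t
    exact ⟨fun h => h.2, fun h => ⟨t.2, h⟩⟩
  rw [this]
  exact hW₀.preimage continuous_subtype_val

theorem exists_stratum (h𝒳 : IsAlgStack Scheme.fppfPrecoverage 𝒳)
    (hI : _root_.AlgSt.IsQuasiCompactMor Scheme.fppfPrecoverage
      (_root_.FibCat.inertiaToBase (_root_.FibCat.toSelf 𝒳)))
    (T : Set (Points 𝒳)) (hT : IsClosed T) (hne : T.Nonempty) :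
    ∃ Q : 𝒳.obj → Prop, (IsLocClosedSubstack 𝒳 Q Scheme.fppfPrecoverage ∧
      SmoothLocally (fun X => IsReduced X) (fullSub 𝒳 Q) ∧ Gerb.IsAlgGerbe Scheme.fppfPrecoverage (fullSub 𝒳 Q)) ∧
      (Set.range (Points.map (subIncl 𝒳 Q))).Nonempty ∧ Set.range (Points.map (subIncl 𝒳 Q)) ⊆ T ∧
      IsOpen ((Subtype.val : T → Points 𝒳) ⁻¹' Set.range (Points.map (subIncl 𝒳 Q))) ∧
      Dense ((Subtype.val : T → Points 𝒳) ⁻¹' Set.range (Points.map (subIncl 𝒳 Q))) := by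
  obtain ⟨QT, Q', hQ, hr, hred, hQ', hd, hg, hne'⟩ := exists_stratum_data h𝒳 hI T hT hne
  obtain ⟨Q, h₁, h₂, h₃, h₄, -⟩ := exists_sub_of_isImm h𝒳 hQ'.2.1
    (BasedFunctor.comp (subIncl (fullSub 𝒳 QT) Q') (subIncl 𝒳 QT))
    (isImm_comp' hQ'.2.1.isStack.1 hQ.2.1.isStack.1 (isImm_of_isOpenImm hQ'.2.2) (isImm_of_isClosedImm hQ.2.2))
    (smoothLocally_isReduced_openSub hQ.2.1 hred hQ') hg
  have he : Set.range (Points.map (subIncl 𝒳 Q)) =
      Points.map (subIncl 𝒳 QT) '' Set.range (Points.map (subIncl (fullSub 𝒳 QT) Q')) := by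
    rw [h₄, ← Set.range_comp]
    exact congrArg Set.range (funext fun p => points_map_comp _ _ p)
  have hsub : Set.range (Points.map (subIncl 𝒳 Q)) ⊆ T := by
    rw [he, ← hr]
    exact Set.image_subset_range _ _
  refine ⟨Q, ⟨h₁, h₂, h₃⟩, ?_, hsub, ?_, ?_⟩
  · rw [he]
    exact (@Dense.nonempty _ _ _ hne' hd).image _
  · rw [he]
    exact isOpen_trace h𝒳 hQ hr (isOpen_range_of_isOpenSubstack hQ.2.1 hQ')
  · rw [Subtype.dense_iff, Subtype.image_preimage_coe, Set.inter_eq_right.2 hsub, he]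
    refine hr.symm.subset.trans ?_
    rw [← Set.image_univ, ← hd.closure_eq]
    exact image_closure_subset_closure_image (continuous_points_map hQ.2.1 h𝒳 _)

theorem exists_qc_stratum (h𝒳 : IsAlgStack Scheme.fppfPrecoverage 𝒳)
    (hI : _root_.AlgSt.IsQuasiCompactMor Scheme.fppfPrecoverage
      (_root_.FibCat.inertiaToBase (_root_.FibCat.toSelf 𝒳)))
    (T : Set (Points 𝒳)) (hT : IsClosed T) (hne : T.Nonempty) :
    ∃ Q : 𝒳.obj → Prop, (IsLocClosedSubstack 𝒳 Q Scheme.fppfPrecoverage ∧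
      SmoothLocally (fun X => IsReduced X) (fullSub 𝒳 Q) ∧ IsQuasiCompact (fullSub 𝒳 Q) ∧
      Gerb.IsAlgGerbe Scheme.fppfPrecoverage (fullSub 𝒳 Q)) ∧
      (Set.range (Points.map (subIncl 𝒳 Q))).Nonempty ∧ Set.range (Points.map (subIncl 𝒳 Q)) ⊆ T ∧
      IsOpen ((Subtype.val : T → Points 𝒳) ⁻¹' Set.range (Points.map (subIncl 𝒳 Q))) := by
  obtain ⟨QT, Q', hQ, hr, hred, hQ', hd, hg, hne'⟩ := exists_stratum_data h𝒳 hI T hT hne
  obtain ⟨_, w, rfl⟩ := @Dense.nonempty _ _ _ hne' hd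
  have h₀ := hQ'.2.1
  obtain ⟨K, hK, hKc, hwK, -⟩ := exists_isCompact_nhd h₀ isOpen_univ (Set.mem_univ w)
  have hQ'' := isOpenSubstack_openPred h₀ hK
  have hopen : IsOpenImm (BasedFunctor.comp (subIncl (fullSub (fullSub 𝒳 QT) Q') (openPred K)) (subIncl (fullSub 𝒳 QT) Q')) :=
    repByAlgSpWith_repWith_comp @IsOpenImmersion hQ''.2.1.isStack.1 h₀.isStack.1 _ _ hQ''.2.2 hQ'.2.2
  obtain ⟨Q, h₁, h₂, h₃, h₄, h₅⟩ := exists_sub_of_isImm h𝒳 hQ''.2.1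
    (BasedFunctor.comp (BasedFunctor.comp (subIncl (fullSub (fullSub 𝒳 QT) Q') (openPred K))
      (subIncl (fullSub 𝒳 QT) Q')) (subIncl 𝒳 QT))
    (isImm_comp' hQ''.2.1.isStack.1 hQ.2.1.isStack.1 (isImm_of_isOpenImm hopen) (isImm_of_isClosedImm hQ.2.2))
    (smoothLocally_isReduced_openSub h₀ (smoothLocally_isReduced_openSub hQ.2.1 hred hQ') hQ'')
    (isAlgGerbe_openSub h₀ hg hQ'')
  have he : Set.range (Points.map (subIncl 𝒳 Q)) =
      Points.map (subIncl 𝒳 QT) '' Set.range (Points.map (BasedFunctor.comp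
        (subIncl (fullSub (fullSub 𝒳 QT) Q') (openPred K)) (subIncl (fullSub 𝒳 QT) Q'))) := by
    rw [h₄, ← Set.range_comp]
    exact congrArg Set.range (funext fun p => points_map_comp _ _ p)
  refine ⟨Q, ⟨h₁, h₂, h₅ (isQuasiCompact_openPred h₀ hK hKc), h₃⟩, ?_, ?_, ?_⟩
  · obtain ⟨w', -⟩ := (range_points_map_subIncl_openPred h₀.isStack.1 (W := K)).symm.subset hwK
    rw [he]
    exact ⟨_, _, ⟨w', rfl⟩, rfl⟩
  · rw [he, ← hr]
    exact Set.image_subset_range _ _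
  · rw [he]
    exact isOpen_trace h𝒳 hQ hr
      (isOpen_range_points_map hQ''.2.1.isStack.1 hQ.2.1.isStack.1 isOpenOnPoints_openImm _ hopen)

end GrothLib.AlgSt.Rigid
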