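import Groth.Agent.Lib.AlgSt.Topology
import Groth.Agent.Lib.FibCat.Slice
import Mathlib.AlgebraicGeometry.Morphisms.UniversallyOpen
import Mathlib.AlgebraicGeometry.PullbackCarrier

/-!
# Transfer of open neighbourhoods between orbit traces over two field-valued objects
-/

set_option backward.isDefEq.respectTransparency false
set_option backward.isDefEq.respectTransparency.types false

universe u

open CategoryTheory CategoryTheory.Limits AlgebraicGeometry Opposite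

namespace GrothLib.AlgSt.Rigid

open _root_.AlgSt GrothLib.FibCat

variable {S : Scheme.{u}} {𝒳 : _root_.AlgSt.Cat S}

theorem sliceHom_overMap_comp {A B C : Over S} (f : A ⟶ B) (k : _root_.FibCat.overCat B ⥤ᵇ _root_.FibCat.overCat C) :
    sliceHom (BasedFunctor.comp (GrothLib.FibCat.overMap f) k) = f ≫ sliceHom k :=
  (sliceHom_congr (whiskerLeftIso (GrothLib.FibCat.overMap f) (isoOverMap k))).trans (sliceHom_comp_overMap f _)

/-- Functors between slices with the same underlying morphism are isomorphic. -/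
noncomputable def isoOfSliceHom {A B : Over S} (k k' : _root_.FibCat.overCat A ⥤ᵇ _root_.FibCat.overCat B)
    (h : sliceHom k = sliceHom k') : k ≅ k' :=
  isoOverMap k ≪≫ eqToIso (congrArg GrothLib.FibCat.overMap h) ≪≫ (isoOverMap k').symm

/-- The point of the image of a point under a functor between slices. -/
theorem pointOf_ofChart {A B : Over S} (k : _root_.FibCat.overCat A ⥤ᵇ _root_.FibCat.overCat B) (t : ↥A.left) :
    pointOf (Points.ofChart k t) = (sliceHom k).left t := by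
  rw [ofChart_congr (isoOverMap k) t]
  have h : Points.ofChart (GrothLib.FibCat.overMap (sliceHom k)) t =
      Points.ofChart (BasedFunctor.id (_root_.FibCat.overCat B)) ((sliceHom k).left t) :=
    ofChart_overMap (sliceHom k) (BasedFunctor.id _) t
  rw [h, pointOf_ofChart_id]

/-- Vertical morphisms of a slice are unique. -/
theorem vertical_ext {A : Over S} {a b : (_root_.FibCat.overCat A).obj} (φ ψ : a ⟶ b) {R : Over S}
    [(_root_.FibCat.overCat A).p.IsHomLift (𝟙 R) φ] [(_root_.FibCat.overCat A).p.IsHomLift (𝟙 R) ψ] : φ = ψ :=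
  Over.OverMorphism.ext ((map_eq_eqToHom (_root_.FibCat.overCat A).p (R := R) φ).trans
    (map_eq_eqToHom (_root_.FibCat.overCat A).p (R := R) ψ).symm)

section Transfer

variable {𝒜 ℬ 𝒢 𝒢' 𝒦 𝒦' 𝒱 : _root_.AlgSt.Cat S} {z : 𝒦 ⥤ᵇ 𝒳} {z' : 𝒦' ⥤ᵇ 𝒳} {w : 𝒱 ⥤ᵇ 𝒳}
  (L : 𝒢 ⥤ᵇ _root_.FibCat.fp z w) (L' : 𝒢' ⥤ᵇ _root_.FibCat.fp z' w)
  (f₂ : 𝒜 ⥤ᵇ ℬ) (m : ℬ ⥤ᵇ 𝒢) (m' : ℬ ⥤ᵇ 𝒢') (f₁ : 𝒜 ⥤ᵇ 𝒢')
  (κ₂ : BasedFunctor.comp m (BasedFunctor.comp L (_root_.FibCat.fpSnd z w)) ≅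
    BasedFunctor.comp m' (BasedFunctor.comp L' (_root_.FibCat.fpSnd z' w)))
  (κ₁ : BasedFunctor.comp f₂ (BasedFunctor.comp m' (BasedFunctor.comp L' (_root_.FibCat.fpFst z' w))) ≅
    BasedFunctor.comp f₁ (BasedFunctor.comp L' (_root_.FibCat.fpFst z' w)))

/-- A family over `z'` moved to `z` through a common point. -/
noncomputable def transfer : 𝒜 ⥤ᵇ _root_.FibCat.fp z w :=
  _root_.FibCat.fpLift (BasedFunctor.comp f₂ (BasedFunctor.comp m (BasedFunctor.comp L (_root_.FibCat.fpFst z w))))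
    (BasedFunctor.comp f₁ (BasedFunctor.comp L' (_root_.FibCat.fpSnd z' w)))
    (whiskerLeftIso f₂ (whiskerLeftIso m (whiskerLeftIso L (_root_.FibCat.fpIso z w)) ≪≫
        whiskerRightIso κ₂ w ≪≫ whiskerLeftIso m' (whiskerLeftIso L' (_root_.FibCat.fpIso z' w)).symm) ≪≫
      whiskerRightIso κ₁ z' ≪≫ whiskerLeftIso f₁ (whiskerLeftIso L' (_root_.FibCat.fpIso z' w)))

theorem transfer_snd : BasedFunctor.comp (transfer L L' f₂ m m' f₁ κ₂ κ₁) (_root_.FibCat.fpSnd z w) =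
    BasedFunctor.comp f₁ (BasedFunctor.comp L' (_root_.FibCat.fpSnd z' w)) := rfl

/-- The distinguished point of the moved family. -/
theorem transfer_hom (a : 𝒜.obj) (ψ : m'.obj (f₂.obj a) ≅ f₁.obj a)
    (e₁ : κ₁.hom.toNatTrans.app a = (L'.toFunctor.mapIso ψ).hom.hom.fst) :
    Nonempty ((transfer L L' f₂ m m' f₁ κ₂ κ₁).obj a ⟶ L.obj (m.obj (f₂.obj a))) := by
  let a₀ := m.obj (f₂.obj a)
  let a₁ := f₁.obj a
  let a₂ := f₂.obj a
  let a₃ := m'.obj a₂
  let k := L'.toFunctor.mapIso ψ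
  let M : (L.obj a₀).obj.snd ≅ (L'.obj a₁).obj.snd := isoApp κ₂ a₂ ≪≫ Fp.isoSnd k
  have e₂ : z'.map k.hom.hom.fst ≫ (L'.obj a₁).obj.iso.hom =
      (L'.obj a₃).obj.iso.hom ≫ w.map k.hom.hom.snd := Fp.w k.hom
  refine ⟨Fp.homMk (𝟙 _) M.inv ?_⟩
  change z.map (𝟙 _) ≫ (L.obj a₀).obj.iso.hom =
    (((L.obj a₀).obj.iso.hom ≫ w.map (κ₂.hom.toNatTrans.app a₂) ≫ (L'.obj a₃).obj.iso.inv) ≫
      z'.map (κ₁.hom.toNatTrans.app a) ≫ (L'.obj a₁).obj.iso.hom) ≫ w.map M.inv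
  rw [z.map_id, Category.id_comp, e₁, e₂]
  have e₃ : w.map M.hom ≫ w.map M.inv = 𝟙 _ := by rw [← w.map_comp, M.hom_inv_id, w.map_id]
  have e₄ : w.map M.hom = w.map (κ₂.hom.toNatTrans.app a₂) ≫ w.map k.hom.hom.snd := w.map_comp _ _
  simp only [Category.assoc, Iso.inv_hom_id_assoc]
  rw [← Category.assoc (w.map (κ₂.hom.toNatTrans.app a₂)), ← e₄, e₃, Category.comp_id]

end Transfer

theorem transfer_point {K K' V G G' B : Over S} {z : _root_.FibCat.overCat K ⥤ᵇ 𝒳} {z' : _root_.FibCat.overCat K' ⥤ᵇ 𝒳}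
    {w : _root_.FibCat.overCat V ⥤ᵇ 𝒳} {k : Type u} [Field k] {str : Spec (CommRingCat.of k) ⟶ S}
    (L : _root_.FibCat.overCat G ⥤ᵇ _root_.FibCat.fp z w) (L' : _root_.FibCat.overCat G' ⥤ᵇ _root_.FibCat.fp z' w)
    (p₁ : B ⟶ G') (p₂ : B ⟶ Over.mk str) (m : Over.mk str ⟶ G) (m' : Over.mk str ⟶ G') (δ : Over.mk str ⟶ B)
    (hδ₁ : δ ≫ p₁ = m') (hδ₂ : δ ≫ p₂ = 𝟙 _)
    (κ₂ : BasedFunctor.comp (GrothLib.FibCat.overMap m) (BasedFunctor.comp L (_root_.FibCat.fpSnd z w)) ≅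
      BasedFunctor.comp (GrothLib.FibCat.overMap m') (BasedFunctor.comp L' (_root_.FibCat.fpSnd z' w)))
    (κ₁ : BasedFunctor.comp (GrothLib.FibCat.overMap p₂)
        (BasedFunctor.comp (GrothLib.FibCat.overMap m') (BasedFunctor.comp L' (_root_.FibCat.fpFst z' w))) ≅
      BasedFunctor.comp (GrothLib.FibCat.overMap p₁) (BasedFunctor.comp L' (_root_.FibCat.fpFst z' w))) :
    Points.ofChart (transfer L L' (GrothLib.FibCat.overMap p₂) (GrothLib.FibCat.overMap m) (GrothLib.FibCat.overMap m')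
      (GrothLib.FibCat.overMap p₁) κ₂ κ₁) (δ.left (IsLocalRing.closedPoint k)) =
      Points.ofChart L (m.left (IsLocalRing.closedPoint k)) := by
  let o : FPt (_root_.FibCat.overCat B) := ⟨k, str, Over.mk δ, rfl⟩
  let a := o.obj
  let a₂ := (GrothLib.FibCat.overMap p₂).obj a
  let a₃ := (GrothLib.FibCat.overMap m').obj a₂
  let a₁ := (GrothLib.FibCat.overMap p₁).obj a
  let ψ : a₃ ≅ a₁ := Over.isoMk (Iso.refl (Over.mk str)) (by
    change 𝟙 (Over.mk str) ≫ δ ≫ p₁ = (δ ≫ p₂) ≫ m'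
    rw [Category.id_comp, hδ₁, hδ₂, Category.id_comp])
  have hψ : (_root_.FibCat.overCat G').p.IsHomLift (𝟙 (Over.mk str)) ψ.hom :=
    IsHomLift.of_fac' _ _ _ rfl rfl (by
      change 𝟙 (Over.mk str) = _
      simp
      rfl)
  have hk : (_root_.FibCat.overCat K').p.IsHomLift (𝟙 (Over.mk str)) (L'.toFunctor.mapIso ψ).hom.hom.fst :=
    (Fp.isHomLift_iff _ _).1 ((L'.isHomLift_iff (𝟙 (Over.mk str)) ψ.hom).2 hψ)
  have hκ : (_root_.FibCat.overCat K').p.IsHomLift (𝟙 (Over.mk str)) (κ₁.hom.toNatTrans.app a) :=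
    BasedNatTrans.isHomLift κ₁.hom rfl
  obtain ⟨h⟩ := transfer_hom L L' (GrothLib.FibCat.overMap p₂) (GrothLib.FibCat.overMap m)
    (GrothLib.FibCat.overMap m') (GrothLib.FibCat.overMap p₁) κ₂ κ₁ a ψ (vertical_ext (R := Over.mk str) _ _)
  let o₀ : FPt (_root_.FibCat.overCat G) := ⟨k, str, (GrothLib.FibCat.overMap m).obj a₂, rfl⟩
  have h₁ : pointOf (Points.mk o) = δ.left (IsLocalRing.closedPoint k) := by
    change (𝟙 _ ≫ δ.left) (IsLocalRing.closedPoint k) = _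
    rw [Category.id_comp]
  have h₂ : pointOf (Points.mk o₀) = m.left (IsLocalRing.closedPoint k) := by
    change (𝟙 _ ≫ ((δ ≫ p₂) ≫ m).left) (IsLocalRing.closedPoint k) = _
    rw [hδ₂, Category.id_comp, Category.id_comp]
  rw [← h₁, ← h₂, ← map_eq_ofChart_pointOf, ← map_eq_ofChart_pointOf]
  exact Points.sound (rel_of_hom (r := o.map _) (p := o₀.map L) h)

theorem exists_open_nhd_transfer {K K' V G G' : Over S} [IsIntegral K'.left] [Subsingleton ↥K'.left]
    (z : _root_.FibCat.overCat K ⥤ᵇ 𝒳) (z' : _root_.FibCat.overCat K' ⥤ᵇ 𝒳) (w : _root_.FibCat.overCat V ⥤ᵇ 𝒳)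
    (L : _root_.FibCat.overCat G ⥤ᵇ _root_.FibCat.fp z w) (L' : _root_.FibCat.overCat G' ⥤ᵇ _root_.FibCat.fp z' w)
    (g𝒳 : _root_.FibCat.IsFibGrpd 𝒳.p) (hat : HasAtlas (AlgSp.LocP @Smooth) (_root_.FibCat.fp z w))
    (hL : RepByAlgSpWith (AlgSp.LocP @Smooth) L) (O : Set ↥G.left) (hO : IsOpen O) (g : ↥G.left) (hg : g ∈ O)
    (g' : ↥G'.left) (hgg' : (sliceHom (BasedFunctor.comp L' (_root_.FibCat.fpSnd z' w))).left g' =
      (sliceHom (BasedFunctor.comp L (_root_.FibCat.fpSnd z w))).left g) :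
    ∃ Ω : Set ↥G'.left, IsOpen Ω ∧ g' ∈ Ω ∧ ∀ t ∈ Ω, ∃ t₀ ∈ O,
      (sliceHom (BasedFunctor.comp L' (_root_.FibCat.fpSnd z' w))).left t =
        (sliceHom (BasedFunctor.comp L (_root_.FibCat.fpSnd z w))).left t₀ := by
  let d := sliceHom (BasedFunctor.comp L (_root_.FibCat.fpSnd z w))
  let d' := sliceHom (BasedFunctor.comp L' (_root_.FibCat.fpSnd z' w))
  let l' := sliceHom (BasedFunctor.comp L' (_root_.FibCat.fpFst z' w))
  -- a common field
  obtain ⟨π, hπ', hπ⟩ := Scheme.Pullback.exists_preimage_pullback (f := d'.left) (g := d.left) g' g hgg'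
  let A : Scheme.{u} := pullback d'.left d.left
  let Lo : Over S := Over.mk (A.fromSpecResidueField π ≫ pullback.fst d'.left d.left ≫ G'.hom)
  let m' : Lo ⟶ G' := Over.homMk (A.fromSpecResidueField π ≫ pullback.fst d'.left d.left) (Category.assoc _ _ _)
  let m : Lo ⟶ G := Over.homMk (A.fromSpecResidueField π ≫ pullback.snd d'.left d.left) (by
    change (A.fromSpecResidueField π ≫ pullback.snd d'.left d.left) ≫ G.hom = _
    rw [← Over.w d, Category.assoc, ← pullback.condition_assoc, Over.w d']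
    rfl)
  have hmd : m' ≫ d' = m ≫ d := Over.OverMorphism.ext (by
    change (A.fromSpecResidueField π ≫ pullback.fst _ _) ≫ d'.left = (A.fromSpecResidueField π ≫ pullback.snd _ _) ≫ d.left
    rw [Category.assoc, Category.assoc, pullback.condition])
  have hm' : ∀ t : ↥Lo.left, m'.left t = g' := fun t => by
    change (A.fromSpecResidueField π ≫ pullback.fst d'.left d.left) t = g'
    rw [Scheme.Hom.comp_apply, Scheme.fromSpecResidueField_apply]
    exact hπ'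
  have hm : ∀ t : ↥Lo.left, m.left t = g := fun t => by
    change (A.fromSpecResidueField π ≫ pullback.snd d'.left d.left) t = g
    rw [Scheme.Hom.comp_apply, Scheme.fromSpecResidueField_apply]
    exact hπ
  let GB := pullback l' (m' ≫ l')
  let p₁ : GB ⟶ G' := pullback.fst _ _
  let p₂ : GB ⟶ Lo := pullback.snd _ _
  let δ : Lo ⟶ GB := pullback.lift m' (𝟙 Lo) (by rw [Category.id_comp])
  have hδ₁ : δ ≫ p₁ = m' := pullback.lift_fst _ _ _
  have hδ₂ : δ ≫ p₂ = 𝟙 Lo := pullback.lift_snd _ _ _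
  let F₁ := BasedFunctor.comp L' (_root_.FibCat.fpFst z' w)
  let F₂ := BasedFunctor.comp L' (_root_.FibCat.fpSnd z' w)
  let κ₂ : BasedFunctor.comp (GrothLib.FibCat.overMap m) (BasedFunctor.comp L (_root_.FibCat.fpSnd z w)) ≅
      BasedFunctor.comp (GrothLib.FibCat.overMap m') F₂ :=
    isoOfSliceHom _ _ (by rw [sliceHom_overMap_comp, sliceHom_overMap_comp]; exact hmd.symm)
  let κ₁ : BasedFunctor.comp (GrothLib.FibCat.overMap p₂) (BasedFunctor.comp (GrothLib.FibCat.overMap m') F₁) ≅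
      BasedFunctor.comp (GrothLib.FibCat.overMap p₁) F₁ :=
    isoOfSliceHom _ _ (by
      rw [sliceHom_overMap_comp, sliceHom_overMap_comp, sliceHom_overMap_comp]
      exact (pullback.condition (f := l') (g := m' ≫ l')).symm)
  let Φ : _root_.FibCat.overCat GB ⥤ᵇ _root_.FibCat.fp z w :=
    transfer L L' (GrothLib.FibCat.overMap p₂) (GrothLib.FibCat.overMap m) (GrothLib.FibCat.overMap m')
      (GrothLib.FibCat.overMap p₁) κ₂ κ₁
  -- the distinguished point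
  have hpt := transfer_point L L' p₁ p₂ m m' δ hδ₁ hδ₂ κ₂ κ₁
  let P₀ := Points.ofChart L '' O
  have hP₀ : IsOpen P₀ :=
    isOpenMap_ofChart (Fp.isFibGrpd (isFibGrpd_overCat K) (isFibGrpd_overCat V) g𝒳) hL O hO
  have hcont := continuous_ofChart (Fp.isFibGrpd (isFibGrpd_overCat K) (isFibGrpd_overCat V) g𝒳) hat Φ
  have : UniversallyOpen (m' ≫ l').left := inferInstance
  have sq := GrothLib.AlgSp.isPullback_left (IsPullback.of_hasPullback l' (m' ≫ l'))
  have : UniversallyOpen p₁.left := MorphismProperty.of_isPullback sq.flip ‹UniversallyOpen (m' ≫ l').left›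
  refine ⟨p₁.left '' (Points.ofChart Φ ⁻¹' P₀), p₁.left.isOpenMap _ (hP₀.preimage hcont),
    ⟨_, ⟨g, hg, (((congrArg (Points.ofChart L) (hm _)).symm.trans hpt.symm) :)⟩, ?_⟩, ?_⟩
  · rw [← Scheme.Hom.comp_apply, ← Over.comp_left, hδ₁]
    exact hm' _
  · rintro _ ⟨y, ⟨t₀, ht₀, hy⟩, rfl⟩
    refine ⟨t₀, ht₀, ?_⟩
    have h₁ := congrArg (fun p => pointOf (Points.map (_root_.FibCat.fpSnd z w) p)) hy
    simp only [← ofChart_comp] at h₁
    rw [pointOf_ofChart, pointOf_ofChart] at h₁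
    rw [h₁]
    change d'.left (p₁.left y) = (sliceHom (BasedFunctor.comp (GrothLib.FibCat.overMap p₁) F₂)).left y
    rw [sliceHom_overMap_comp, Over.comp_left, Scheme.Hom.comp_apply]

end GrothLib.AlgSt.Rigid
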